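import Cfsg.Agent.H65.Ore.Prd

/-!
# S4173, S2464, S2452: a common predicate (helper210)
-/

set_option autoImplicit false

namespace Cfsg.Agent.H210.TC

/-- two classes of prime orders, prime to six, whose product contains all nonidentity elements; the cube of the first
class is the group -/
def Row3 (S : Type*) [Group S] : Prop :=
  ∃ x y : S, (orderOf x).Prime ∧ Nat.Coprime (orderOf x) 6 ∧ (orderOf y).Prime ∧ Nat.Coprime (orderOf y) 6 ∧
    (∀ g : S, g ≠ 1 → ∃ u v : S, g = (u * x * u⁻¹) * (v * y * v⁻¹)) ∧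
    (∀ g : S, ∃ u v w : S, g = (u * x * u⁻¹) * (v * x * v⁻¹) * (w * x * w⁻¹))

theorem Row3.of_equiv {G H : Type*} [Group G] [Group H] (e : G ≃* H) (h : Row3 H) : Row3 G := by
  obtain ⟨x, y, hx, hx6, hy, hy6, h, h3⟩ := h
  have eo : ∀ z : H, orderOf (e.symm z) = orderOf z := fun z =>
    orderOf_injective (e.symm : H →* G) e.symm.injective z
  refine ⟨e.symm x, e.symm y, by rwa [eo], by rwa [eo], by rwa [eo], by rwa [eo], fun g hg => ?_, fun g => ?_⟩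
  · obtain ⟨u, v, e'⟩ := h (e g) (by
      intro h1
      exact hg (e.injective (by rw [h1, map_one])))
    refine ⟨e.symm u, e.symm v, e.injective ?_⟩
    rw [e']
    simp
  · obtain ⟨u, v, w, e'⟩ := h3 (e g)
    refine ⟨e.symm u, e.symm v, e.symm w, e.injective ?_⟩
    rw [e']
    simp

variable {S : Type*} [Group S]

/-- S2464 -/
theorem Row3.s2464 (h : Row3 S) : ∃ x y : S, Nat.Coprime (orderOf x) 6 ∧ Nat.Coprime (orderOf y) 6 ∧
    ∀ g : S, g ≠ 1 → ∃ u v : S, g = (u * x * u⁻¹) * (v * y * v⁻¹) := by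
  obtain ⟨x, y, -, hx6, -, hy6, h, -⟩ := h
  exact ⟨x, y, hx6, hy6, h⟩

/-- S2452 -/
theorem Row3.s2452 (h : Row3 S) : ∃ x y : S, (orderOf x).Prime ∧
      ((orderOf y).Prime ∨ ∃ s₁ s₂ : ℕ, s₁.Prime ∧ s₂.Prime ∧ s₁ ≠ s₂ ∧ orderOf y = s₁ * s₂) ∧
      (∀ g : S, g ≠ 1 → ∃ u v : S, g = (u * x * u⁻¹) * (v * y * v⁻¹)) ∧
      (∀ g : S, ∃ u v w : S, g = (u * x * u⁻¹) * (v * x * v⁻¹) * (w * x * w⁻¹)) := by
  obtain ⟨x, y, hx, -, hy, -, h, h3⟩ := h
  exact ⟨x, y, hx, Or.inl hy, h, h3⟩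

/-- S4173 -/
theorem Row3.tc (h : Row3 S) : ∃ a b : S, ∀ g : S, g ≠ 1 → ∃ u v : S, g = (u * a * u⁻¹) * (v * b * v⁻¹) := by
  obtain ⟨x, y, -, -, -, -, h, -⟩ := h
  exact ⟨x, y, h⟩

/-- the cube of a class whose square contains everything except possibly the identity -/
theorem cube_of_sq {x : S} (hx : (orderOf x).Prime) (hx6 : Nat.Coprime (orderOf x) 6)
    (h : ∀ g : S, g ≠ 1 → ∃ u v : S, g = (u * x * u⁻¹) * (v * x * v⁻¹)) (g : S) :
    ∃ u v w : S, g = (u * x * u⁻¹) * (v * x * v⁻¹) * (w * x * w⁻¹) := by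
  -- a conjugate of `x` different from `g`
  obtain ⟨w, hw⟩ : ∃ w : S, w * x * w⁻¹ ≠ g := by
    by_contra hcon
    push Not at hcon
    have h1 : ∀ u : S, u * x * u⁻¹ = x := fun u => by rw [hcon u, ← hcon 1]; group
    have hx1 : x ≠ 1 := by
      rintro rfl
      rw [orderOf_one] at hx
      exact absurd hx (by norm_num)
    have hxx : x = x * x := by
      obtain ⟨u, v, e⟩ := h x hx1
      rwa [h1 u, h1 v] at e
    exact hx1 (by simpa using hxx)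
  obtain ⟨u, v, e⟩ := h (g * (w * x * w⁻¹)⁻¹) (fun h1 => hw (mul_inv_eq_one.1 h1).symm)
  exact ⟨u, v, w, by rw [← e]; group⟩

theorem Row3.of_sq {x : S} (hx : (orderOf x).Prime) (hx6 : Nat.Coprime (orderOf x) 6)
    (h : ∀ g : S, g ≠ 1 → ∃ u v : S, g = (u * x * u⁻¹) * (v * x * v⁻¹)) : Row3 S :=
  ⟨x, x, hx, hx6, hx, hx6, h, cube_of_sq hx hx6 h⟩

end Cfsg.Agent.H210.TC
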