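import Cfsg.Agent.H210.TC.Pair
import Cfsg.Agent.H511.Ore.RowLy

/-!
# S4173, S2464, S2452: the row of the Lyons group (helper210)

The classes of elements of order 31 and 67 (pair lemma), and the square of the class of an element of order 31.
`hK` : the classification (universe 0), `fun _ _ _ h => S0000.result`.
-/

set_option autoImplicit false
set_option maxRecDepth 100000

namespace Cfsg.Agent.H210.TC

open Cfsg Subgroup

/-- the row from a pair of classes, the second in the square of the first -/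
theorem Row3.of_pair {S : Type*} [Group S] {x y : S} (hx : (orderOf x).Prime) (hx6 : Nat.Coprime (orderOf x) 6)
    (hy : (orderOf y).Prime) (hy6 : Nat.Coprime (orderOf y) 6)
    (h : ∀ g : S, g ≠ 1 → ∃ u v : S, g = (u * x * u⁻¹) * (v * y * v⁻¹))
    (h1 : ∃ u v : S, y = (u * x * u⁻¹) * (v * x * v⁻¹)) (h2 : ∃ u v : S, x⁻¹ = (u * x * u⁻¹) * (v * x * v⁻¹)) :
    Row3 S := by
  refine ⟨x, y, hx, hx6, hy, hy6, h, fun g => ?_⟩
  by_cases hg : g = 1
  · obtain ⟨u, v, e⟩ := h2
    refine ⟨1, u, v, ?_⟩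
    rw [mul_assoc, ← e, hg]
    group
  · obtain ⟨u, v, e⟩ := h g hg
    obtain ⟨a, b, e'⟩ := h1
    refine ⟨u, v * a, v * b, ?_⟩
    have e2 : v * a * x * (v * a)⁻¹ * (v * b * x * (v * b)⁻¹) = v * y * v⁻¹ := by
      rw [e']
      group
    rw [mul_assoc, e2]
    exact e

namespace Ly

open Cfsg.Agent.H511.Ore Cfsg.Agent.H511.Ore.Ly Cfsg.Agent.H653.Sieve Cfsg.Agent.H651.Two

def c67 : CD := ⟨67, 1, 22, 3, [(0, 0), (1, 3), (22, -1), (45, 1), (66, -3)], 3, true⟩

theorem chkA : allDiv (3561250 * 3561250) (Pair.tst2 [(67, [1, 66]), (31, [1, 30])] cd) fac 1 = true := by decide +kernel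

theorem chkB : allDiv (2517480 * 2517480) (Pair.tst2 [(67, [22, 45]), (31, [1, 30])] cd) fac 1 = true := by
  decide +kernel

theorem chkC : allDiv (5470080 * 5470080) (Pair.tst2 [(67, [1, 66]), (31, [6, 25])] cd) fac 1 = true := by decide +kernel

theorem chkD : allDiv (40000 * 40000) (Pair.tst2 [(67, [1, 66, 22, 45]), (31, [1, 30, 6, 25])] cd) fac 1 = true := by
  decide +kernel

theorem mem67 : c67 ∈ cd := by simp [cd, c67]

theorem mem31 : c31 ∈ cd := by simp [cd]

theorem card67 (hK : H995.CopEngine.AllKnown.{0}) {x : Spor.Ly} (hx : orderOf x = 67) :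
    Nat.card (centralizer ({x} : Set Spor.Ly)) = 67 := by
  have hI : Spor.IsoLy Spor.Ly := ⟨MulEquiv.refl _⟩
  exact (H655.LySixtySeven.card_centralizer hK hI hx).trans (by norm_num)

/-- **Every nonidentity element is a product of an element of a given class of elements of order 67 and an element of a
given class of elements of order 31.** -/
theorem prd (hK : H995.CopEngine.AllKnown.{0}) {x y g : Spor.Ly} (hx : orderOf x = 67) (hy : orderOf y = 31)
    (hg : g ≠ 1) : ∃ a b : Spor.Ly, a * x * a⁻¹ * (b * y * b⁻¹) = g := by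
  have := Cfsg.Agent.Ly.Setup.finite_ly
  have := Cfsg.Agent.Ly.Setup.isSimple_ly
  have hok : ∀ c ∈ cd, CD.ok 51765179004000000 c = true := fun c hc => List.all_eq_true.1 chk1 c hc
  have hN := Cfsg.Agent.Ly.Setup.card_ly
  by_cases hs : Nat.card (centralizer ({g} : Set Spor.Ly)) ≤ 67
  · exact Pair.prd_crude nonab _ hN fac chk2 chk3 cd chk1 (has hK) mem67 mem31 rfl rfl (D := 40000) (K := 67) chkD
      (by norm_num) (by decide +kernel) hx (card67 hK hx) hy (card31 hy) hs
  · have hnd : ∀ c ∈ cd, c.k = 1 → c.r ≤ 67 → ¬ c.r ∣ orderOf g := fun c hc hk hr h =>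
      hs ((Pair.cent_le_of_dvd nonab hN (has hK c hc) hk (hok c hc) h).trans hr)
    have hnc : ∀ c ∈ cd, c.k = 1 → c.r ≤ 67 → Nat.Coprime c.r (Nat.card (centralizer ({g} : Set Spor.Ly))) :=
      fun c hc hk hr => (Nat.Prime.coprime_iff_not_dvd (has hK c hc).1).2
        (Pair.not_dvd_cent nonab hN (has hK c hc) hk (hok c hc) hg (hnd c hc hk hr))
    have h67 : Nat.Coprime 67 (Nat.card (centralizer ({g} : Set Spor.Ly))) := hnc c67 mem67 rfl le_rfl
    have h31 : Nat.Coprime 31 (Nat.card (centralizer ({g} : Set Spor.Ly))) := hnc c31 mem31 rfl (by decide)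
    have h37 : Nat.Coprime 37 (Nat.card (centralizer ({g} : Set Spor.Ly))) :=
      hnc ⟨37, 1, 18, 2, [(0, 0), (1, 2), (18, -1), (19, 1), (36, -2)], 2, true⟩ (by simp [cd]) rfl (by norm_num)
    have hcg : Nat.card (centralizer ({g} : Set Spor.Ly)) ∣ 673596000000 := by
      have h1 : Nat.card (centralizer ({g} : Set Spor.Ly)) ∣ 31 * (37 * (67 * 673596000000)) := by
        have h2 := Subgroup.card_subgroup_dvd_card (centralizer ({g} : Set Spor.Ly))
        rw [hN] at h2
        exact h2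
      exact h67.symm.dvd_of_dvd_mul_left (h37.symm.dvd_of_dvd_mul_left (h31.symm.dvd_of_dvd_mul_left h1))
    exact Pair.prd_row nonab _ hN fac chk2 chk3 cd chk1 (has hK) mem67 mem31 rfl rfl (by decide) (m := 5)
      (D1 := 3561250) (D2 := 2517480) (D3 := 5470080) (K := 673596000000) (Or.inr (by decide)) (by norm_num) chkA chkB
      chkC (by norm_num) (by norm_num) (by norm_num) (by decide +kernel) hx (card67 hK hx) hy (card31 hy)
      (Nat.le_of_dvd (by norm_num) hcg) (hnd c67 mem67 rfl le_rfl) (hnd c31 mem31 rfl (by decide))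

/-- **The row of the Lyons group.** -/
theorem row3_ly' (hK : H995.CopEngine.AllKnown.{0}) : Row3 Spor.Ly := by
  obtain ⟨x, hx⟩ := ex 31 (by norm_num) (by norm_num)
  obtain ⟨y, hy⟩ := ex 67 (by norm_num) (by norm_num)
  have hxi : orderOf x⁻¹ = 31 := by rw [orderOf_inv, hx]
  refine Row3.of_pair (x := x) (y := y) (by rw [hx]; norm_num) (by rw [hx]; norm_num) (by rw [hy]; norm_num)
    (by rw [hy]; norm_num) (fun g hg => ?_) ?_ ?_
  · obtain ⟨a, b, e⟩ := prd hK hy hx hg
    refine ⟨b, (b * x * b⁻¹)⁻¹ * a, ?_⟩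
    rw [← e]
    group
  · obtain ⟨a, b, e⟩ := prd_ly hK hx hx (g := y) (by rw [card67 hK hy]; norm_num)
    exact ⟨a, b, e.symm⟩
  · obtain ⟨a, b, e⟩ := prd_ly hK hx hx (g := x⁻¹) (by rw [card31 hxi]; norm_num)
    exact ⟨a, b, e.symm⟩

end Ly

/-- **The row `Ly` of S4173, S2464, S2452.** -/
theorem row3_ly (hK : H995.CopEngine.AllKnown.{0}) {S : Type*} [Group S] (h : Spor.IsoLy S) : Row3 S := by
  obtain ⟨e⟩ := h
  exact (Ly.row3_ly' hK).of_equiv e

end Cfsg.Agent.H210.TC
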