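import Cfsg.Agent.H210.TC.Row
import Cfsg.Agent.H535.Ore.ON

/-!
# S4173, S2464, S2452: the row of O'N (helper210)

Every nonidentity element is a product of two elements of order 11 of one class.
-/

set_option autoImplicit false

namespace Cfsg.Agent.H210.TC.ONan

open Cfsg Cfsg.Agent.H535.Ore.ON Cfsg.Agent.H474.ONC

theorem row3_on {S : Type*} [Group S] (h : Spor.IsoON S) : Row3 S := by
  obtain ⟨e⟩ := h
  obtain ⟨x, hx, -⟩ := exists_eleven
  refine Row3.of_equiv e (Row3.of_sq (x := x) (by rw [hx]; norm_num) (by rw [hx]; norm_num) fun g hg => ?_)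
  exact prd_on hx hx hg

end Cfsg.Agent.H210.TC.ONan
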