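import Cfsg.Agent.H97.TC.Zcent
import Cfsg.Agent.Characters.Linear

/-!
# Long root ratios from Heisenberg radicals (helper210, for S2464 / S2452)

`Q` a finite group, `commutator Q ≤ Z ≤ center Q`, `χ` a character of `Q`, `fx χ H` = dimension of the `H`-fixed space.

* `bounds` : if every linear `μ ≠ 1` with `Z ≤ ker μ` is nontrivial on at least `n` and at most `N` of the subgroups `R i ≥ Z`
  (`i ∈ s`), then `n (fx Z - fx Q) ≤ ∑ i ∈ s, (fx Z - fx (R i)) ≤ N (fx Z - fx Q)`;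
* `bounds_const` : the same with `χ = ζ` on `R i - 1`, `|R i| = q ^ 2`, `|Z| = q`:
  `fx Z - fx (R i) = (q - 1) (d - ζ) / q ^ 2`;
* `ratio_le`, `le_ratio` : the bounds for `ζ / d`;
* `norm_sub_le` : `‖χ g - fx Q‖ ≤ ρ (fx Z - fx Q)` if the average of `μ` over conjugates `g_i ∈ Q - Z` of `g` is at most `ρ`.
-/

set_option autoImplicit false

open Cfsg Subgroup

namespace Cfsg.Agent.H210.TC.Long

open Cfsg.Agent.Characters
open scoped ComplexConjugate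

universe u

section abs

variable {Q : Type u} [Group Q] [Fintype Q]

open Classical in
/-- the dimension of the space fixed by `H` -/
noncomputable def fx (χ : Q → ℂ) (H : Subgroup Q) : ℝ :=
  ((∑ g : Q, if g ∈ H then χ g else 0) / (Nat.card H : ℂ)).re

open Classical in
theorem sum_ite_eq (χ : Q → ℂ) (H : Subgroup Q) [Fintype H] :
    (∑ g : Q, if g ∈ H then χ g else 0) = ∑ h : H, χ h := by
  rw [← Finset.sum_filter]
  exact Finset.sum_subtype (p := fun x => x ∈ H) (Finset.univ.filter (· ∈ H)) (fun x => by simp) χ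

theorem fx_eq (χ : Q → ℂ) (H : Subgroup Q) [Fintype H] : fx χ H = ((∑ h : H, χ h) / (Nat.card H : ℂ)).re := by
  rw [fx, sum_ite_eq]

theorem fx_zero (H : Subgroup Q) : fx (0 : Q → ℂ) H = 0 := by
  simp [fx]

theorem fx_add (χ ψ : Q → ℂ) (H : Subgroup Q) : fx (χ + ψ) H = fx χ H + fx ψ H := by
  classical
  have h : (∑ g : Q, if g ∈ H then (χ + ψ) g else 0) =
      (∑ g : Q, if g ∈ H then χ g else 0) + ∑ g : Q, if g ∈ H then ψ g else 0 := by
    rw [← Finset.sum_add_distrib]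
    refine Finset.sum_congr rfl fun g _ => ?_
    split_ifs
    · rfl
    · rw [add_zero]
  rw [fx, fx, fx, ← Complex.add_re, ← add_div, ← h]

theorem fx_nsmul (n : ℕ) (χ : Q → ℂ) (H : Subgroup Q) : fx (n • χ) H = n * fx χ H := by
  induction n with
  | zero => rw [zero_smul, fx_zero]; simp
  | succ n ih => rw [succ_nsmul, fx_add, ih]; push_cast; ring

theorem fx_sum {ι : Type*} (s : Finset ι) (f : ι → Q → ℂ) (H : Subgroup Q) :
    fx (∑ i ∈ s, f i) H = ∑ i ∈ s, fx (f i) H := by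
  classical
  induction s using Finset.induction_on with
  | empty => simp [fx_zero]
  | insert a s ha ih => rw [Finset.sum_insert ha, Finset.sum_insert ha, fx_add, ih]

/-- an irreducible character nontrivial on the central subgroup `Z` has no fixed points for `H ≥ Z` -/
theorem fx_eq_zero {θ : Q → ℂ} (hθ : IsIrrCharacter Q θ) {Z H : Subgroup Q} (hZ : Z ≤ center Q) (hH : Z ≤ H) {z : Q}
    (hz : z ∈ Z) (hne : θ z ≠ θ 1) : fx θ H = 0 := by
  classical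
  have h0 : θ 1 ≠ 0 := Central.irr_one_ne_zero hθ
  have h1 : (∑ g : Q, if g ∈ H then θ g else 0) = ∑ g : Q, if z * g ∈ H then θ (z * g) else 0 :=
    (Fintype.sum_equiv (Equiv.mulLeft z) _ _ fun g => rfl).symm
  have h2 : ∀ g : Q, (if z * g ∈ H then θ (z * g) else 0) = θ z / θ 1 * (if g ∈ H then θ g else 0) := by
    intro g
    by_cases hg : g ∈ H
    · rw [if_pos hg, if_pos (H.mul_mem (hH hz) hg), div_mul_eq_mul_div, eq_div_iff h0]
      exact H97.TC.irr_central_mul hθ (hZ hz) g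
    · rw [if_neg hg, if_neg (fun h => hg ((H.mul_mem_cancel_left (hH hz)).1 h)), mul_zero]
  rw [Finset.sum_congr rfl fun g _ => h2 g, ← Finset.mul_sum] at h1
  have h3 : (1 - θ z / θ 1) * (∑ g : Q, if g ∈ H then θ g else 0) = 0 := by
    rw [sub_mul, one_mul, ← h1, sub_self]
  rcases mul_eq_zero.1 h3 with h4 | h4
  · exfalso
    apply hne
    have h5 : θ z / θ 1 = 1 := (sub_eq_zero.1 h4).symm
    rwa [div_eq_one_iff_eq h0] at h5
  · rw [fx, h4]; simp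

/-- an irreducible character trivial on `Z ≥ commutator Q` is linear -/
theorem exists_hom {θ : Q → ℂ} (hθ : IsIrrCharacter Q θ) {Z : Subgroup Q} (hZ : Z ≤ center Q)
    (hc : ∀ a x : Q, a * x * a⁻¹ * x⁻¹ ∈ Z) (h : ∀ z ∈ Z, θ z = θ 1) : ∃ f : Q →* ℂˣ, θ = (fun g => (f g : ℂ)) ∧ Z ≤ f.ker := by
  have h0 : θ 1 ≠ 0 := Central.irr_one_ne_zero hθ
  have hz : ∀ z ∈ Z, ∀ w : Q, θ (z * w) = θ w := by
    intro z hz w
    have h1 := H97.TC.irr_central_mul hθ (hZ hz) w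
    rw [h z hz, mul_comm (θ 1)] at h1
    exact mul_right_cancel₀ h0 h1
  have hmul : ∀ x y : Q, θ (x * y) * θ 1 = θ x * θ y := by
    intro x y
    have h1 := Central.sum_char_conj_mul hθ x y
    have h2 : ∀ a : Q, θ (a * x * a⁻¹ * y) = θ (x * y) := by
      intro a
      rw [← hz _ (hc a x) (x * y)]
      congr 1
      group
    rw [Finset.sum_congr rfl (fun a _ => h2 a), Finset.sum_const, Finset.card_univ, ← Nat.card_eq_fintype_card,
      nsmul_eq_mul] at h1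
    have hcQ : (Nat.card Q : ℂ) ≠ 0 := Core.card_ne_zero_complex
    rw [eq_div_iff h0, mul_assoc, mul_assoc] at h1
    exact mul_left_cancel₀ hcQ h1
  obtain ⟨d, hd0, hd⟩ := Core.isIrr_apply_one hθ
  have hn : ∀ x : Q, θ x * conj (θ x) = (d : ℂ) ^ 2 := by
    intro x
    have h1 := hmul x x⁻¹
    rw [mul_inv_cancel, Core.isCharacter_apply_inv (Core.isIrr_isCharacter hθ) x, hd] at h1
    rw [← h1]; ring
  have h1 : (d : ℂ) ^ 2 = 1 := by
    have h2 := Core.classInner_irr_self hθ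
    rw [classInner, Finset.sum_congr rfl fun x _ => hn x, Finset.sum_const, Finset.card_univ,
      ← Nat.card_eq_fintype_card, nsmul_eq_mul, ← mul_assoc, inv_mul_cancel₀ Core.card_ne_zero_complex, one_mul] at h2
    exact h2
  have hd1 : d = 1 := by
    have h2 : d ^ 2 = 1 := by exact_mod_cast h1
    exact (Nat.pow_eq_one.1 h2).resolve_right (by norm_num)
  obtain ⟨f, hf⟩ := Linear.exists_hom_of_isIrrCharacter hθ (by rw [hd, hd1]; norm_num)
  refine ⟨f, hf, fun z hz => ?_⟩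
  have h2 := h z hz
  rw [hf] at h2
  rw [MonoidHom.mem_ker]
  simp only [map_one, Units.val_one] at h2
  exact Units.ext h2

open Classical in
theorem fx_hom (f : Q →* ℂˣ) (H : Subgroup Q) : fx (fun g => (f g : ℂ)) H = if H ≤ f.ker then 1 else 0 := by
  have : Fintype H := Fintype.ofFinite _
  have hcH : (Nat.card H : ℂ) ≠ 0 := Core.card_ne_zero_complex
  rw [fx_eq]
  split_ifs with h
  · have h1 : ∑ x : H, ((f x : ℂˣ) : ℂ) = (Nat.card H : ℂ) := by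
      rw [Finset.sum_congr rfl (fun (x : H) _ => by
        rw [show f x = 1 from MonoidHom.mem_ker.1 (h x.2), Units.val_one]), Finset.sum_const, Finset.card_univ,
        ← Nat.card_eq_fintype_card, nsmul_eq_mul, mul_one]
    rw [h1, div_self hcH, Complex.one_re]
  · have h1 : ∑ x : H, ((f x : ℂˣ) : ℂ) = 0 := by
      refine sum_hom_units_eq_zero ((Units.coeHom ℂ).comp (f.comp H.subtype)) fun h2 => h fun x hx => ?_
      rw [MonoidHom.mem_ker]
      apply Units.ext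
      exact DFunLike.congr_fun h2 (⟨x, hx⟩ : H)
    rw [h1, zero_div, Complex.zero_re]

open Classical in
/-- **The averaging inequality.** -/
theorem bounds {χ : Q → ℂ} (hχ : IsCharacter Q χ) {Z : Subgroup Q} (hZ : Z ≤ center Q)
    (hc : ∀ a x : Q, a * x * a⁻¹ * x⁻¹ ∈ Z) {ι : Type*} (s : Finset ι) (R : ι → Subgroup Q) (hR : ∀ i ∈ s, Z ≤ R i)
    {n N : ℕ} (hn : ∀ μ : Q →* ℂˣ, μ ≠ 1 → Z ≤ μ.ker → n ≤ (s.filter fun i => ¬ R i ≤ μ.ker).card ∧
      (s.filter fun i => ¬ R i ≤ μ.ker).card ≤ N) :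
    (n : ℝ) * (fx χ Z - fx χ ⊤) ≤ ∑ i ∈ s, (fx χ Z - fx χ (R i)) ∧
      ∑ i ∈ s, (fx χ Z - fx χ (R i)) ≤ (N : ℝ) * (fx χ Z - fx χ ⊤) := by
  have : Finite (IrrCharacter Q) := Core.finite_irr
  have : Fintype (IrrCharacter Q) := Fintype.ofFinite _
  obtain ⟨m, hm⟩ := Core.exists_nat_comb hχ
  have key : ∀ θ : IrrCharacter Q, (n : ℝ) * (fx (θ : Q → ℂ) Z - fx (θ : Q → ℂ) ⊤) ≤
        ∑ i ∈ s, (fx (θ : Q → ℂ) Z - fx (θ : Q → ℂ) (R i)) ∧
      ∑ i ∈ s, (fx (θ : Q → ℂ) Z - fx (θ : Q → ℂ) (R i)) ≤ (N : ℝ) * (fx (θ : Q → ℂ) Z - fx (θ : Q → ℂ) ⊤) := by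
    intro θ
    by_cases hk : ∀ z ∈ Z, (θ : Q → ℂ) z = (θ : Q → ℂ) 1
    · obtain ⟨f, hf, hfZ⟩ := exists_hom θ.2 hZ hc hk
      rw [hf, fx_hom, fx_hom, if_pos hfZ]
      have h1 : ∑ i ∈ s, (1 - fx (fun g => (f g : ℂ)) (R i)) = ((s.filter fun i => ¬ R i ≤ f.ker).card : ℝ) := by
        rw [Finset.card_filter]
        push_cast
        refine Finset.sum_congr rfl fun i _ => ?_
        rw [fx_hom]
        by_cases h2 : R i ≤ f.ker
        · rw [if_pos h2, if_neg (not_not.2 h2), sub_self]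
        · rw [if_neg h2, if_pos h2, sub_zero]
      rw [h1]
      by_cases hf1 : f = 1
      · have h2 : ∀ H : Subgroup Q, H ≤ f.ker := fun H x _ => by rw [hf1, MonoidHom.mem_ker]; rfl
        have h3 : (s.filter fun i => ¬ R i ≤ f.ker) = ∅ := by
          rw [Finset.filter_eq_empty_iff]
          exact fun i _ => not_not.2 (h2 _)
        rw [h3, if_pos (h2 _)]
        simp
      · have h2 : ¬ (⊤ : Subgroup Q) ≤ f.ker := by
          intro h2
          apply hf1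
          ext x
          rw [MonoidHom.mem_ker.1 (h2 (Subgroup.mem_top x))]
          rfl
        obtain ⟨h3, h4⟩ := hn f hf1 hfZ
        rw [if_neg h2, sub_zero, mul_one, mul_one]
        exact ⟨by exact_mod_cast h3, by exact_mod_cast h4⟩
    · push Not at hk
      obtain ⟨z, hz, hne⟩ := hk
      have h1 : ∑ i ∈ s, (fx (θ : Q → ℂ) Z - fx (θ : Q → ℂ) (R i)) = 0 :=
        Finset.sum_eq_zero fun i hi => by
          rw [fx_eq_zero θ.2 hZ le_rfl hz hne, fx_eq_zero θ.2 hZ (hR i hi) hz hne, sub_zero]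
      rw [h1, fx_eq_zero θ.2 hZ le_rfl hz hne, fx_eq_zero θ.2 hZ le_top hz hne, sub_zero, mul_zero, mul_zero]
      exact ⟨le_rfl, le_rfl⟩
  have hfx : ∀ H : Subgroup Q, fx χ H = ∑ θ : IrrCharacter Q, (m θ : ℝ) * fx (θ : Q → ℂ) H := by
    intro H
    rw [hm, fx_sum]
    exact Finset.sum_congr rfl fun θ _ => fx_nsmul _ _ _
  have h1 : fx χ Z - fx χ ⊤ = ∑ θ : IrrCharacter Q, (m θ : ℝ) * (fx (θ : Q → ℂ) Z - fx (θ : Q → ℂ) ⊤) := by
    rw [hfx, hfx, ← Finset.sum_sub_distrib]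
    exact Finset.sum_congr rfl fun θ _ => by ring
  have h2 : ∑ i ∈ s, (fx χ Z - fx χ (R i)) =
      ∑ θ : IrrCharacter Q, (m θ : ℝ) * ∑ i ∈ s, (fx (θ : Q → ℂ) Z - fx (θ : Q → ℂ) (R i)) := by
    simp only [Finset.mul_sum]
    rw [Finset.sum_comm]
    refine Finset.sum_congr rfl fun i _ => ?_
    rw [hfx, hfx, ← Finset.sum_sub_distrib]
    exact Finset.sum_congr rfl fun θ _ => by ring
  rw [h1, h2, Finset.mul_sum, Finset.mul_sum]
  constructor
  · refine Finset.sum_le_sum fun θ _ => ?_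
    have := mul_le_mul_of_nonneg_left (key θ).1 (Nat.cast_nonneg (α := ℝ) (m θ))
    linarith
  · refine Finset.sum_le_sum fun θ _ => ?_
    have := mul_le_mul_of_nonneg_left (key θ).2 (Nat.cast_nonneg (α := ℝ) (m θ))
    linarith

/-- a character constant on `H - 1` -/
theorem fx_const {χ : Q → ℂ} {H : Subgroup Q} {d ζ : ℝ} (hd : χ 1 = (d : ℂ)) (h : ∀ g ∈ H, g ≠ 1 → χ g = (ζ : ℂ)) :
    fx χ H = (d + ((Nat.card H : ℝ) - 1) * ζ) / Nat.card H := by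
  classical
  have : Fintype H := Fintype.ofFinite _
  rw [fx_eq]
  have h1 : ∑ x : H, χ x = (((d + ((Nat.card H : ℝ) - 1) * ζ : ℝ)) : ℂ) := by
    have h4 : ∑ x : H, (χ x - (ζ : ℂ)) = (d : ℂ) - ζ := by
      rw [Finset.sum_eq_single (1 : H)]
      · rw [OneMemClass.coe_one, hd]
      · intro b _ hb
        rw [h b b.2 (fun h' => hb (Subtype.ext h')), sub_self]
      · intro h'; exact absurd (Finset.mem_univ _) h'
    rw [Finset.sum_sub_distrib, Finset.sum_const, Finset.card_univ, ← Nat.card_eq_fintype_card, nsmul_eq_mul] at h4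
    have h5 : ∑ x : H, χ x = (d : ℂ) - ζ + (Nat.card H : ℂ) * ζ := by rw [← h4]; ring
    rw [h5]
    push_cast
    ring
  rw [h1]
  have h2 : ((((d + ((Nat.card H : ℝ) - 1) * ζ : ℝ)) : ℂ) / (Nat.card H : ℂ)) =
      (((d + ((Nat.card H : ℝ) - 1) * ζ) / Nat.card H : ℝ) : ℂ) := by push_cast; rfl
  rw [h2, Complex.ofReal_re]

open Classical in
/-- **The averaging inequality, one value.** -/
theorem bounds_const {χ : Q → ℂ} (hχ : IsCharacter Q χ) {Z : Subgroup Q} (hZ : Z ≤ center Q)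
    (hc : ∀ a x : Q, a * x * a⁻¹ * x⁻¹ ∈ Z) {ι : Type*} (s : Finset ι) (R : ι → Subgroup Q) (hR : ∀ i ∈ s, Z ≤ R i)
    {n N : ℕ} (hn : ∀ μ : Q →* ℂˣ, μ ≠ 1 → Z ≤ μ.ker → n ≤ (s.filter fun i => ¬ R i ≤ μ.ker).card ∧
      (s.filter fun i => ¬ R i ≤ μ.ker).card ≤ N) {q : ℕ} (hq : Nat.card Z = q) (hq2 : ∀ i ∈ s, Nat.card (R i) = q ^ 2)
    {d ζ : ℝ} (hd : χ 1 = (d : ℂ)) (hz : ∀ g ∈ Z, g ≠ 1 → χ g = (ζ : ℂ)) (hr : ∀ i ∈ s, ∀ g ∈ R i, g ≠ 1 → χ g = (ζ : ℂ)) :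
    (n : ℝ) * ((d + ((q : ℝ) - 1) * ζ) / q - fx χ ⊤) ≤ s.card * (((q : ℝ) - 1) * (d - ζ) / q ^ 2) ∧
      s.card * (((q : ℝ) - 1) * (d - ζ) / q ^ 2) ≤ (N : ℝ) * ((d + ((q : ℝ) - 1) * ζ) / q - fx χ ⊤) := by
  have h := bounds hχ hZ hc s R hR hn
  have hq0 : (q : ℝ) ≠ 0 := by
    rw [← hq]
    exact_mod_cast (Nat.card_pos (α := Z)).ne'
  have h1 : fx χ Z = (d + ((q : ℝ) - 1) * ζ) / q := by rw [fx_const hd hz, hq]
  have h2 : ∑ i ∈ s, (fx χ Z - fx χ (R i)) = s.card * (((q : ℝ) - 1) * (d - ζ) / q ^ 2) := by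
    rw [Finset.sum_congr rfl (g := fun _ => ((q : ℝ) - 1) * (d - ζ) / q ^ 2) (fun i hi => ?_), Finset.sum_const,
      nsmul_eq_mul]
    rw [h1, fx_const hd (hr i hi), hq2 i hi]
    push_cast
    field_simp
    ring
  rw [h2, h1] at h
  exact h

open Classical in
/-- `χ` on `Q - Z`: the average over conjugates -/
theorem norm_sub_le {χ : Q → ℂ} (hχ : IsCharacter Q χ) {Z : Subgroup Q} (hZ : Z ≤ center Q)
    (hc : ∀ a x : Q, a * x * a⁻¹ * x⁻¹ ∈ Z) {ι : Type*} (s : Finset ι) (hs : s.Nonempty) (g : ι → Q) {w : ℂ}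
    (hg : ∀ i ∈ s, ∀ z ∈ Z, χ (z * g i) = w) {ρ : ℝ}
    (hρ : ∀ μ : Q →* ℂˣ, μ ≠ 1 → Z ≤ μ.ker → ‖∑ i ∈ s, (μ (g i) : ℂ)‖ ≤ ρ * s.card) :
    ‖w - fx χ ⊤‖ ≤ ρ * (fx χ Z - fx χ ⊤) := by
  have : Finite (IrrCharacter Q) := Core.finite_irr
  have : Fintype (IrrCharacter Q) := Fintype.ofFinite _
  have : Fintype Z := Fintype.ofFinite _
  obtain ⟨m, hm⟩ := Core.exists_nat_comb hχ
  have hcZ : (Nat.card Z : ℂ) ≠ 0 := Core.card_ne_zero_complex
  have hs0 : (0 : ℝ) < s.card := by exact_mod_cast hs.card_pos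
  -- the mean over `Z` and over `s`
  let A : (Q → ℂ) → ℂ := fun φ => (Nat.card Z : ℂ)⁻¹ * ∑ i ∈ s, ∑ z : Z, φ (z * g i)
  have hA : A χ = s.card * w := by
    change (Nat.card Z : ℂ)⁻¹ * _ = _
    rw [Finset.sum_congr rfl (g := fun _ => (Nat.card Z : ℂ) * w) (fun i hi => by
      rw [Finset.sum_congr rfl (g := fun _ => w) (fun (z : Z) _ => hg i hi (z : Q) z.2), Finset.sum_const,
        Finset.card_univ,
        ← Nat.card_eq_fintype_card, nsmul_eq_mul]), Finset.sum_const, nsmul_eq_mul]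
    field_simp
  have hA2 : A χ = ∑ θ : IrrCharacter Q, (m θ : ℂ) * A (θ : Q → ℂ) := by
    have h1 : ∀ x : Q, χ x = ∑ θ : IrrCharacter Q, (m θ : ℂ) * (θ : Q → ℂ) x := by
      intro x
      conv_lhs => rw [hm]
      rw [Finset.sum_apply]
      refine Finset.sum_congr rfl fun θ _ => ?_
      rw [Pi.smul_apply, nsmul_eq_mul]
    change (Nat.card Z : ℂ)⁻¹ * ∑ i ∈ s, ∑ z : Z, χ (z * g i) =
      ∑ θ : IrrCharacter Q, (m θ : ℂ) * ((Nat.card Z : ℂ)⁻¹ * ∑ i ∈ s, ∑ z : Z, (θ : Q → ℂ) (z * g i))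
    simp only [h1, Finset.mul_sum]
    rw [Finset.sum_congr rfl (fun i _ => Finset.sum_comm), Finset.sum_comm]
    refine Finset.sum_congr rfl fun θ _ => Finset.sum_congr rfl fun i _ => Finset.sum_congr rfl fun z _ => ?_
    ring
  have key : ∀ θ : IrrCharacter Q, ‖A (θ : Q → ℂ) - s.card * (fx (θ : Q → ℂ) ⊤ : ℂ)‖ ≤
      ρ * s.card * (fx (θ : Q → ℂ) Z - fx (θ : Q → ℂ) ⊤) := by
    intro θ
    by_cases hk : ∀ z ∈ Z, (θ : Q → ℂ) z = (θ : Q → ℂ) 1
    · obtain ⟨f, hf, hfZ⟩ := exists_hom θ.2 hZ hc hk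
      have h1 : A (θ : Q → ℂ) = ∑ i ∈ s, (f (g i) : ℂ) := by
        change (Nat.card Z : ℂ)⁻¹ * ∑ i ∈ s, ∑ z : Z, (θ : Q → ℂ) (z * g i) = _
        rw [hf, Finset.sum_congr rfl (g := fun i => (Nat.card Z : ℂ) * (f (g i) : ℂ)) (fun i _ => by
          rw [Finset.sum_congr rfl (g := fun _ => (f (g i) : ℂ)) (fun (z : Z) _ => by
            change ((f ((z : Q) * g i) : ℂˣ) : ℂ) = _
            rw [map_mul, show f z = 1 from MonoidHom.mem_ker.1 (hfZ z.2), one_mul]), Finset.sum_const,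
            Finset.card_univ, ← Nat.card_eq_fintype_card, nsmul_eq_mul]), ← Finset.mul_sum]
        field_simp
      rw [h1, hf, fx_hom, fx_hom, if_pos hfZ]
      by_cases hf1 : f = 1
      · have h2 : (⊤ : Subgroup Q) ≤ f.ker := fun x _ => by rw [hf1, MonoidHom.mem_ker]; rfl
        rw [if_pos h2, hf1]
        simp
      · have h2 : ¬ (⊤ : Subgroup Q) ≤ f.ker := by
          intro h2
          apply hf1
          ext x
          rw [MonoidHom.mem_ker.1 (h2 (Subgroup.mem_top x))]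
          rfl
        rw [if_neg h2]
        have := hρ f hf1 hfZ
        simpa using this
    · push Not at hk
      obtain ⟨z, hz, hne⟩ := hk
      have h0 : (θ : Q → ℂ) 1 ≠ 0 := Central.irr_one_ne_zero θ.2
      have h1 : A (θ : Q → ℂ) = 0 := by
        change (Nat.card Z : ℂ)⁻¹ * ∑ i ∈ s, ∑ y : Z, (θ : Q → ℂ) (y * g i) = 0
        rw [Finset.sum_eq_zero, mul_zero]
        intro i _
        have h2 : ∑ y : Z, (θ : Q → ℂ) (y * g i) = ∑ y : Z, (θ : Q → ℂ) ((⟨z, hz⟩ * y : Z) * g i) :=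
          (Fintype.sum_equiv (Equiv.mulLeft (⟨z, hz⟩ : Z)) _ _ fun y => rfl).symm
        have h3 : ∀ y : Z, (θ : Q → ℂ) ((⟨z, hz⟩ * y : Z) * g i) =
            (θ : Q → ℂ) z / (θ : Q → ℂ) 1 * (θ : Q → ℂ) (y * g i) := by
          intro y
          rw [div_mul_eq_mul_div, eq_div_iff h0, Subgroup.coe_mul, mul_assoc]
          exact H97.TC.irr_central_mul θ.2 (hZ hz) _
        rw [Finset.sum_congr rfl fun y _ => h3 y, ← Finset.mul_sum] at h2
        have h4 : (1 - (θ : Q → ℂ) z / (θ : Q → ℂ) 1) * ∑ y : Z, (θ : Q → ℂ) (y * g i) = 0 := by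
          rw [sub_mul, one_mul, ← h2, sub_self]
        rcases mul_eq_zero.1 h4 with h5 | h5
        · exfalso
          apply hne
          have h6 : (θ : Q → ℂ) z / (θ : Q → ℂ) 1 = 1 := (sub_eq_zero.1 h5).symm
          rwa [div_eq_one_iff_eq h0] at h6
        · exact h5
      rw [h1, fx_eq_zero θ.2 hZ le_rfl hz hne, fx_eq_zero θ.2 hZ le_top hz hne]
      simp
  have hfx : ∀ H : Subgroup Q, fx χ H = ∑ θ : IrrCharacter Q, (m θ : ℝ) * fx (θ : Q → ℂ) H := by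
    intro H
    rw [hm, fx_sum]
    exact Finset.sum_congr rfl fun θ _ => fx_nsmul _ _ _
  have h1 : (s.card : ℂ) * (w - fx χ ⊤) =
      ∑ θ : IrrCharacter Q, (m θ : ℂ) * (A (θ : Q → ℂ) - s.card * (fx (θ : Q → ℂ) ⊤ : ℂ)) := by
    rw [mul_sub, ← hA, hA2, hfx]
    push_cast
    rw [Finset.mul_sum, ← Finset.sum_sub_distrib]
    exact Finset.sum_congr rfl fun θ _ => by ring
  have h2 : (s.card : ℝ) * ‖w - fx χ ⊤‖ ≤ s.card * (ρ * (fx χ Z - fx χ ⊤)) := by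
    have h3 : (s.card : ℝ) * ‖w - fx χ ⊤‖ = ‖(s.card : ℂ) * (w - fx χ ⊤)‖ := by
      rw [norm_mul, Complex.norm_natCast]
    rw [h3, h1]
    refine (norm_sum_le _ _).trans ?_
    have h4 : (s.card : ℝ) * (ρ * (fx χ Z - fx χ ⊤)) =
        ∑ θ : IrrCharacter Q, (m θ : ℝ) * (ρ * s.card * (fx (θ : Q → ℂ) Z - fx (θ : Q → ℂ) ⊤)) := by
      rw [hfx, hfx, ← Finset.sum_sub_distrib, Finset.mul_sum, Finset.mul_sum]
      exact Finset.sum_congr rfl fun θ _ => by ring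
    rw [h4]
    refine Finset.sum_le_sum fun θ _ => ?_
    rw [norm_mul, Complex.norm_natCast]
    exact mul_le_mul_of_nonneg_left (key θ) (Nat.cast_nonneg _)
  exact le_of_mul_le_mul_left h2 hs0

end abs

/-! ### Arithmetic of the ratio -/

/-- upper bound: `A = M (q - 1) / (q n)` -/
theorem ratio_le {q d ζ f0 n M : ℝ} (hq : 1 < q) (hd : 0 < d) (hn : 0 < n) (hM : 0 ≤ M)
    (h : n * ((d + (q - 1) * ζ) / q - f0) ≤ M * ((q - 1) * (d - ζ) / q ^ 2)) :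
    ζ / d ≤ (M * (q - 1) / (q * n) - 1 + q * (f0 / d)) / (q - 1 + M * (q - 1) / (q * n)) := by
  have hq0 : 0 < q := by linarith
  have hA : 0 ≤ M * (q - 1) / (q * n) := by
    have : 0 ≤ q - 1 := by linarith
    positivity
  have hden : 0 < q - 1 + M * (q - 1) / (q * n) := by linarith
  rw [div_le_div_iff₀ hd hden]
  have h1 : (d + (q - 1) * ζ) - q * f0 ≤ M * (q - 1) / (q * n) * (d - ζ) := by
    have h2 : (d + (q - 1) * ζ) - q * f0 = q / n * (n * ((d + (q - 1) * ζ) / q - f0)) := by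
      field_simp
    have h3 : M * (q - 1) / (q * n) * (d - ζ) = q / n * (M * ((q - 1) * (d - ζ) / q ^ 2)) := by
      field_simp
    rw [h2, h3]
    exact mul_le_mul_of_nonneg_left h (by positivity)
  have h4 : (M * (q - 1) / (q * n) - 1 + q * (f0 / d)) * d = M * (q - 1) / (q * n) * d - d + q * f0 := by
    field_simp
  rw [h4]
  linarith

/-- lower bound -/
theorem le_ratio {q d ζ f0 N M : ℝ} (hq : 1 < q) (hd : 0 < d) (hN : 0 < N) (hM : 0 ≤ M)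
    (h : M * ((q - 1) * (d - ζ) / q ^ 2) ≤ N * ((d + (q - 1) * ζ) / q - f0)) :
    (M * (q - 1) / (q * N) - 1 + q * (f0 / d)) / (q - 1 + M * (q - 1) / (q * N)) ≤ ζ / d := by
  have hq0 : 0 < q := by linarith
  have hA : 0 ≤ M * (q - 1) / (q * N) := by
    have : 0 ≤ q - 1 := by linarith
    positivity
  have hden : 0 < q - 1 + M * (q - 1) / (q * N) := by linarith
  rw [div_le_div_iff₀ hden hd]
  have h1 : M * (q - 1) / (q * N) * (d - ζ) ≤ (d + (q - 1) * ζ) - q * f0 := by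
    have h2 : (d + (q - 1) * ζ) - q * f0 = q / N * (N * ((d + (q - 1) * ζ) / q - f0)) := by
      field_simp
    have h3 : M * (q - 1) / (q * N) * (d - ζ) = q / N * (M * ((q - 1) * (d - ζ) / q ^ 2)) := by
      field_simp
    rw [h2, h3]
    exact mul_le_mul_of_nonneg_left h (by positivity)
  have h4 : (M * (q - 1) / (q * N) - 1 + q * (f0 / d)) * d = M * (q - 1) / (q * N) * d - d + q * f0 := by
    field_simp
  rw [h4]
  linarith

/-! ### In a group `G ≥ Q` -/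

section group

variable {G : Type u} [Group G]

open Classical in
/-- **The averaging inequality in `G`** : `χ = ζ` on the nontrivial elements of the subgroups `R i`, `Z ≤ R i ≤ Q` of order
`q ^ 2`; every linear `μ ≠ 1` of `Q` trivial on `Z` is nontrivial on at least `n`, at most `N` of the `M` groups `R i`. -/
theorem group_bounds {χ : G → ℂ} (hχ : IsCharacter G χ) {Q Z : Subgroup G} (hZQ : Z ≤ Q)
    (hZ : ∀ z ∈ Z, ∀ y ∈ Q, y * z = z * y) (hc : ∀ a ∈ Q, ∀ x ∈ Q, a * x * a⁻¹ * x⁻¹ ∈ Z) {ι : Type*} (s : Finset ι)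
    (R : ι → Subgroup G) (hR : ∀ i ∈ s, Z ≤ R i) (hRQ : ∀ i ∈ s, R i ≤ Q) {n N : ℕ}
    (hn : ∀ μ : Q →* ℂˣ, μ ≠ 1 → (∀ z : Q, (z : G) ∈ Z → μ z = 1) →
      n ≤ (s.filter fun i => ∃ r : Q, (r : G) ∈ R i ∧ μ r ≠ 1).card ∧
        (s.filter fun i => ∃ r : Q, (r : G) ∈ R i ∧ μ r ≠ 1).card ≤ N) {q : ℕ} (hq : Nat.card Z = q)
    (hq2 : ∀ i ∈ s, Nat.card (R i) = q ^ 2) {d ζ : ℝ} (hd : χ 1 = (d : ℂ)) (hz : ∀ g ∈ Z, g ≠ 1 → χ g = (ζ : ℂ))
    (hr : ∀ i ∈ s, ∀ g ∈ R i, g ≠ 1 → χ g = (ζ : ℂ)) [Fintype Q] :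
    (n : ℝ) * ((d + ((q : ℝ) - 1) * ζ) / q - fx (fun x : Q => χ x) ⊤) ≤ s.card * (((q : ℝ) - 1) * (d - ζ) / q ^ 2) ∧
      s.card * (((q : ℝ) - 1) * (d - ζ) / q ^ 2) ≤
        (N : ℝ) * ((d + ((q : ℝ) - 1) * ζ) / q - fx (fun x : Q => χ x) ⊤) := by
  have hχQ : IsCharacter Q (fun x : Q => χ x) := Core.isCharacter_comp Q.subtype hχ
  have hcard : ∀ {H : Subgroup G}, H ≤ Q → Nat.card (H.subgroupOf Q) = Nat.card H := fun hH =>
    Nat.card_congr (Subgroup.subgroupOfEquivOfLe hH).toEquiv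
  refine bounds_const hχQ (Z := Z.subgroupOf Q) (fun z hz => Subgroup.mem_center_iff.2 fun y => Subtype.ext
    (hZ z (Subgroup.mem_subgroupOf.1 hz) y y.2)) (fun a x => Subgroup.mem_subgroupOf.2 (hc a a.2 x x.2)) s
    (fun i => (R i).subgroupOf Q) (fun i hi z hz => Subgroup.mem_subgroupOf.2 (hR i hi (Subgroup.mem_subgroupOf.1 hz)))
    (fun μ hμ hk => ?_) (by rw [hcard hZQ, hq]) (fun i hi => by rw [hcard (hRQ i hi), hq2 i hi]) hd
    (fun g hg h1 => hz g (Subgroup.mem_subgroupOf.1 hg) fun h => h1 (Subtype.ext h))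
    (fun i hi g hg h1 => hr i hi g (Subgroup.mem_subgroupOf.1 hg) fun h => h1 (Subtype.ext h))
  have h1 := hn μ hμ fun z hz => MonoidHom.mem_ker.1 (hk (Subgroup.mem_subgroupOf.2 hz))
  have h2 : (s.filter fun i => ¬ (R i).subgroupOf Q ≤ μ.ker) = s.filter fun i => ∃ r : Q, (r : G) ∈ R i ∧ μ r ≠ 1 := by
    refine Finset.filter_congr fun i _ => ?_
    rw [SetLike.not_le_iff_exists]
    constructor
    · rintro ⟨r, h3, h4⟩
      exact ⟨r, Subgroup.mem_subgroupOf.1 h3, fun h => h4 (MonoidHom.mem_ker.2 h)⟩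
    · rintro ⟨r, h3, h4⟩
      exact ⟨r, Subgroup.mem_subgroupOf.2 h3, fun h => h4 (MonoidHom.mem_ker.1 h)⟩
  rw [h2]
  exact ⟨by convert h1.1, by convert h1.2⟩

/-- **The ratio of a long root element**, upper and lower bound (`f0 = dim V ^ Q`, `A = M (q - 1) / (q n)`,
`B = M (q - 1) / (q N)`). -/
theorem group_ratio {χ : G → ℂ} (hχ : IsCharacter G χ) {Q Z : Subgroup G} (hZQ : Z ≤ Q)
    (hZ : ∀ z ∈ Z, ∀ y ∈ Q, y * z = z * y) (hc : ∀ a ∈ Q, ∀ x ∈ Q, a * x * a⁻¹ * x⁻¹ ∈ Z) {ι : Type*} (s : Finset ι)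
    (R : ι → Subgroup G) (hR : ∀ i ∈ s, Z ≤ R i) (hRQ : ∀ i ∈ s, R i ≤ Q) {n N : ℕ} (hn0 : 0 < n) (hN0 : 0 < N)
    (hn : open Classical in ∀ μ : Q →* ℂˣ, μ ≠ 1 → (∀ z : Q, (z : G) ∈ Z → μ z = 1) →
      n ≤ (s.filter fun i => ∃ r : Q, (r : G) ∈ R i ∧ μ r ≠ 1).card ∧
        (s.filter fun i => ∃ r : Q, (r : G) ∈ R i ∧ μ r ≠ 1).card ≤ N) {q : ℕ} (hq1 : 1 < q) (hq : Nat.card Z = q)
    (hq2 : ∀ i ∈ s, Nat.card (R i) = q ^ 2) {d ζ : ℝ} (hd0 : 0 < d) (hd : χ 1 = (d : ℂ))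
    (hz : ∀ g ∈ Z, g ≠ 1 → χ g = (ζ : ℂ)) (hr : ∀ i ∈ s, ∀ g ∈ R i, g ≠ 1 → χ g = (ζ : ℂ)) [Fintype Q] :
    ((s.card : ℝ) * (q - 1) / (q * N) - 1 + q * (fx (fun x : Q => χ x) ⊤ / d)) / (q - 1 + s.card * (q - 1) / (q * N)) ≤
        ζ / d ∧
      ζ / d ≤ ((s.card : ℝ) * (q - 1) / (q * n) - 1 + q * (fx (fun x : Q => χ x) ⊤ / d)) /
        (q - 1 + s.card * (q - 1) / (q * n)) := by
  have h := group_bounds hχ hZQ hZ hc s R hR hRQ hn hq hq2 hd hz hr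
  have h1 : (1 : ℝ) < q := by exact_mod_cast hq1
  exact ⟨le_ratio h1 hd0 (by exact_mod_cast hN0) (Nat.cast_nonneg _) h.2,
    ratio_le h1 hd0 (by exact_mod_cast hn0) (Nat.cast_nonneg _) h.1⟩

open Classical in
/-- `χ` on `Q - Z` in `G` -/
theorem group_norm_sub_le {χ : G → ℂ} (hχ : IsCharacter G χ) {Q Z : Subgroup G}
    (hZ : ∀ z ∈ Z, ∀ y ∈ Q, y * z = z * y) (hc : ∀ a ∈ Q, ∀ x ∈ Q, a * x * a⁻¹ * x⁻¹ ∈ Z) {ι : Type*} (s : Finset ι)
    (hs : s.Nonempty) (g : ι → Q) {v : G} (hg : ∀ i ∈ s, ∀ z ∈ Z, IsConj v (z * g i)) {ρ : ℝ}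
    (hρ : ∀ μ : Q →* ℂˣ, μ ≠ 1 → (∀ z : Q, (z : G) ∈ Z → μ z = 1) → ‖∑ i ∈ s, (μ (g i) : ℂ)‖ ≤ ρ * s.card) [Fintype Q] :
    ‖χ v - fx (fun x : Q => χ x) ⊤‖ ≤
      ρ * (fx (fun x : Q => χ x) (Z.subgroupOf Q) - fx (fun x : Q => χ x) ⊤) := by
  have hχQ : IsCharacter Q (fun x : Q => χ x) := Core.isCharacter_comp Q.subtype hχ
  have hcf := Core.isCharacter_isClassFunction hχ
  refine norm_sub_le hχQ (Z := Z.subgroupOf Q) (fun z hz => Subgroup.mem_center_iff.2 fun y => Subtype.ext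
    (hZ z (Subgroup.mem_subgroupOf.1 hz) y y.2)) (fun a x => Subgroup.mem_subgroupOf.2 (hc a a.2 x x.2)) s hs g
    (fun i hi z hz => ?_) fun μ hμ hk => hρ μ hμ fun z hz => MonoidHom.mem_ker.1 (hk (Subgroup.mem_subgroupOf.2 hz))
  obtain ⟨w, hw⟩ := isConj_iff.1 (hg i hi z (Subgroup.mem_subgroupOf.1 hz))
  change χ ((z : G) * (g i : G)) = χ v
  rw [← hw]
  exact hcf v w

end group

/-- `F₄(3)`: `q = 3`, `M = 1120`, `n = 648`, `N = 810` -/
theorem num_three {r e : ℝ}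
    (h1 : ((1120 : ℝ) * (3 - 1) / (3 * 810) - 1 + 3 * e) / (3 - 1 + 1120 * (3 - 1) / (3 * 810)) ≤ r)
    (h2 : r ≤ ((1120 : ℝ) * (3 - 1) / (3 * 648) - 1 + 3 * e) / (3 - 1 + 1120 * (3 - 1) / (3 * 648))) (he : 0 ≤ e) :
    |r| ≤ 484 / 10000 + 96 / 100 * e := by
  rw [abs_le]
  constructor
  · refine le_trans ?_ h1
    rw [le_div_iff₀ (by norm_num)]
    nlinarith
  · refine h2.trans ?_
    rw [div_le_iff₀ (by norm_num)]
    nlinarith

end Cfsg.Agent.H210.TC.Long
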