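import Cfsg.Agent.H511.Ore.Prd
import Cfsg.Agent.H210.TC.Row

/-!
# The pair lemma for two self-centralizing primes (helper210; S4173, S2464, S2452)

`x` of order `p`, `y` of order `q`, both self-centralizing with Sylow subgroups of order `p`, `q`; `e t = p - 1`,
`e' t' = q - 1`, `m + 1 = min` of the numbers of ordinary characters (`e`, or `e + 1` if `t = 1`).
* No character is exceptional for both primes (`t, t' ≥ 2`).
* The `t` exceptional characters of `p` agree on `p`-regular elements, so they contribute to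
  `∑ χ(x) χ(y) conj χ(g) / χ(1)` like one ordinary character, and `t |Θ(g)|² ≤ |C(g)|`.
Hence for `g` regular for both primes `|C(g)| (m / D₁² + 1 / (t D₂²) + 1 / (t' D₃²)) < 1` gives `g ∈ x^G y^G`, where
`D₁`, `D₂`, `D₃` bound the degrees of the nontrivial characters of the three kinds (ordinary/ordinary,
exceptional/ordinary, ordinary/exceptional).
-/

set_option autoImplicit false

open Cfsg Subgroup
open scoped ComplexConjugate

namespace Cfsg.Agent.H210.TC.Pair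

open Cfsg.Agent.H653.Sieve Cfsg.Agent.H651.Two Cfsg.Agent.Characters.Core Cfsg.Agent.H511.Ore
open Cfsg.Agent.SmallSimple.ThetaSetup Cfsg.Agent.SmallSimple.PrimeLocal

universe u

variable {G : Type u} [Group G] [Finite G]

theorem sum_lin {P : Type*} [Group P] [Fintype P] {l : P →* ℂˣ} (hl : l ≠ 1) : ∑ z : P, ((l z : ℂˣ) : ℂ) = 0 := by
  refine sum_hom_units_eq_zero ((Units.coeHom ℂ).comp l) fun h => hl ?_
  ext z
  have := DFunLike.congr_fun h z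
  simpa using this

/-- two sets of linear characters with the same sum on the nonidentity elements are not disjoint -/
theorem not_disjoint {P : Type*} [Group P] [Fintype P] {S S' : Finset (P →* ℂˣ)} (hne : S.Nonempty)
    (hc : S.card = S'.card) (h : ∀ z : P, z ≠ 1 → ∑ l ∈ S, ((l z : ℂˣ) : ℂ) = ∑ l ∈ S', ((l z : ℂˣ) : ℂ)) :
    ¬ Disjoint S S' := by
  classical
  intro hd
  obtain ⟨l₀, hl₀⟩ := hne
  have h1 : ∀ z : P, ∑ l ∈ S, ((l z : ℂˣ) : ℂ) = ∑ l ∈ S', ((l z : ℂˣ) : ℂ) := by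
    intro z
    by_cases hz : z = 1
    · subst hz
      simp only [map_one, Units.val_one, Finset.sum_const, hc]
    · exact h z hz
  -- the multiplicity of `l₀`
  have key : ∀ T : Finset (P →* ℂˣ), ∑ z : P, ∑ l ∈ T, ((l z : ℂˣ) : ℂ) * (((l₀⁻¹ : P →* ℂˣ) z : ℂˣ) : ℂ) =
      if l₀ ∈ T then (Fintype.card P : ℂ) else 0 := by
    intro T
    rw [Finset.sum_comm]
    have h2 : ∀ l ∈ T, ∑ z : P, ((l z : ℂˣ) : ℂ) * (((l₀⁻¹ : P →* ℂˣ) z : ℂˣ) : ℂ) =
        if l = l₀ then (Fintype.card P : ℂ) else 0 := by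
      intro l _
      have h3 : ∀ z : P, ((l z : ℂˣ) : ℂ) * (((l₀⁻¹ : P →* ℂˣ) z : ℂˣ) : ℂ) = (((l * l₀⁻¹ : P →* ℂˣ) z : ℂˣ) : ℂ) := by
        intro z
        rw [MonoidHom.mul_apply, Units.val_mul]
      rw [Finset.sum_congr rfl fun z _ => h3 z]
      by_cases hl : l = l₀
      · rw [if_pos hl, hl]
        have h5 : ∀ z : P, (((l₀ * l₀⁻¹ : P →* ℂˣ) z : ℂˣ) : ℂ) = 1 := fun z => by
          rw [MonoidHom.mul_apply, MonoidHom.inv_apply, mul_inv_cancel, Units.val_one]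
        rw [Finset.sum_congr rfl fun z _ => h5 z]
        simp
      · rw [if_neg hl]
        exact sum_lin fun h4 => hl (mul_inv_eq_one.1 h4)
    rw [Finset.sum_congr rfl h2, Finset.sum_ite_eq']
  have h2 := key S
  have h3 := key S'
  rw [if_pos hl₀] at h2
  rw [if_neg fun h => Finset.disjoint_left.1 hd hl₀ h] at h3
  have h4 : ∑ z : P, ∑ l ∈ S, ((l z : ℂˣ) : ℂ) * (((l₀⁻¹ : P →* ℂˣ) z : ℂˣ) : ℂ) =
      ∑ z : P, ∑ l ∈ S', ((l z : ℂˣ) : ℂ) * (((l₀⁻¹ : P →* ℂˣ) z : ℂˣ) : ℂ) := by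
    refine Finset.sum_congr rfl fun z _ => ?_
    rw [← Finset.sum_mul, ← Finset.sum_mul, h1 z]
  rw [h2, h3] at h4
  have : (Fintype.card P : ℂ) ≠ 0 := by exact_mod_cast Fintype.card_ne_zero
  exact this h4

/-- residues of the degrees: constant value on the nonidentity elements of a subgroup of order `p` -/
theorem res_const {p : ℕ} {P : Subgroup G} (hP : Nat.card P = p) (hp : 2 ≤ p) {χ : IrrCharacter G} {c : ℤ}
    (h : ∀ x ∈ P, x ≠ 1 → (χ : G → ℂ) x = c) : ∃ m : ℤ, (charDegree (χ : G → ℂ) : ℤ) = c + p * m := by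
  classical
  have := Fintype.ofFinite P
  obtain ⟨m, hm⟩ := SmallSimple.TheoremBCor.exists_sum_eq (isIrr_isCharacter χ.2) P
  rw [← Finset.add_sum_erase _ _ (Finset.mem_univ (1 : P)), Subgroup.coe_one, Blocks.Knorr.charDegree_eq χ.2,
    Finset.sum_congr rfl (g := fun _ => (c : ℂ)), Finset.sum_const,
    Finset.card_erase_of_mem (Finset.mem_univ _), Finset.card_univ, ← Nat.card_eq_fintype_card, hP] at hm
  · refine ⟨m - c, ?_⟩
    have h1 : (charDegree (χ : G → ℂ) : ℂ) + ((p : ℂ) - 1) * c = p * m := by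
      rw [nsmul_eq_mul, Nat.cast_sub (by omega), Nat.cast_one] at hm
      linear_combination hm
    have h2 : ((charDegree (χ : G → ℂ) : ℤ) : ℂ) = ((c + p * (m - c) : ℤ) : ℂ) := by
      push_cast
      linear_combination h1
    exact_mod_cast h2
  · intro b hb
    exact h b b.2 fun e => (Finset.mem_erase.1 hb).1 (Subtype.ext e)

/-- residues of the degrees: exceptional characters -/
theorem res_exc {p e : ℕ} {P : Subgroup G} (hP : Nat.card P = p) {χ : IrrCharacter G} {d : ℤ}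
    {S : Finset (P →* ℂˣ)} (hS : S.card = e) (h1 : 1 ∉ S)
    (h : ∀ x : P, x ≠ 1 → (χ : G → ℂ) x = d * ∑ l ∈ S, ((l x : ℂˣ) : ℂ)) :
    ∃ m : ℤ, (charDegree (χ : G → ℂ) : ℤ) = d * e + p * m := by
  classical
  have := Fintype.ofFinite P
  obtain ⟨m, hm⟩ := SmallSimple.TheoremBCor.exists_sum_eq (isIrr_isCharacter χ.2) P
  have h2 : ∑ x : P, (d * ∑ l ∈ S, ((l x : ℂˣ) : ℂ) : ℂ) = 0 := by
    rw [← Finset.mul_sum, Finset.sum_comm, Finset.sum_eq_zero fun l hl => sum_lin fun h3 => h1 (h3 ▸ hl), mul_zero]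
  rw [← Finset.add_sum_erase _ _ (Finset.mem_univ (1 : P))] at h2 hm
  have h3 : ∑ x ∈ Finset.univ.erase (1 : P), (χ : G → ℂ) x =
      ∑ x ∈ Finset.univ.erase (1 : P), (d * ∑ l ∈ S, ((l x : ℂˣ) : ℂ) : ℂ) :=
    Finset.sum_congr rfl fun x hx => h x (Finset.mem_erase.1 hx).1
  rw [h3, Subgroup.coe_one, Blocks.Knorr.charDegree_eq χ.2, hP] at hm
  simp only [map_one, Units.val_one, Finset.sum_const, hS, nsmul_eq_mul, mul_one] at h2
  refine ⟨m, ?_⟩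
  have h4 : ((charDegree (χ : G → ℂ) : ℤ) : ℂ) = ((d * e + p * m : ℤ) : ℂ) := by
    push_cast
    linear_combination hm - h2
  exact_mod_cast h4

theorem sq_norm_cent [Fintype (IrrCharacter G)] (x : G) :
    ∑ χ : IrrCharacter G, ‖(χ : G → ℂ) x‖ ^ 2 = (Nat.card (centralizer ({x} : Set G)) : ℝ) := by
  classical
  have := Fintype.ofFinite G
  have h2 := S0145.sum_irr_mul_conj x x
  rw [if_pos (IsConj.refl x)] at h2
  have h4 : ((∑ χ : IrrCharacter G, ‖(χ : G → ℂ) x‖ ^ 2 : ℝ) : ℂ) =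
      ((Nat.card (centralizer ({x} : Set G)) : ℝ) : ℂ) := by
    push_cast
    rw [← h2]
    refine Finset.sum_congr rfl fun χ _ => ?_
    rw [Complex.mul_conj, Complex.normSq_eq_norm_sq]
    push_cast
    rfl
  exact_mod_cast h4

theorem cent_of_mem {p : ℕ} [Fact p.Prime] {P : Sylow p G} (hP : Nat.card P = p)
    (hC : centralizer (P : Set G) = (P : Subgroup G)) {x : G} (hx : x ∈ P) (hx1 : x ≠ 1) :
    Nat.card (centralizer ({x} : Set G)) = p := by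
  have hC' : centralizer ({x} : Set G) = (P : Subgroup G) :=
    (Blocks.CyclicOrtho.centralizer_eq P hP hx hx1).trans hC
  rw [hC']
  exact hP

theorem one_eq [Fintype (IrrCharacter G)] {a b : G} (h : ¬ IsConj a b) :
    ∑ χ : IrrCharacter G, (χ : G → ℂ) a * conj ((χ : G → ℂ) b) = 0 := by
  classical
  have := Fintype.ofFinite G
  rw [S0145.sum_irr_mul_conj a b, if_neg h]

/-- the numerical end -/
theorem num {u v w A B C c m t t' D1 D2 D3 : ℝ} (hm : 0 < m) (ht : 0 < t) (ht' : 0 < t') (hD1 : 0 < D1) (hD2 : 0 < D2)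
    (hD3 : 0 < D3) (h1 : D1 * D2 * D3 ≤ u * (D2 * D3) + v * (D1 * D3) + w * (D1 * D2)) (hu : u ^ 2 ≤ m * A)
    (hv : v ^ 2 ≤ B) (hw : w ^ 2 ≤ C) (hc : A + t * B + t' * C ≤ c) :
    t * t' * (D1 * D2 * D3) ^ 2 ≤ c * (m * t * t' * (D2 * D3) ^ 2 + t' * (D1 * D3) ^ 2 + t * (D1 * D2) ^ 2) := by
  have h2 : (D1 * D2 * D3) ^ 2 ≤ (u * (D2 * D3) + v * (D1 * D3) + w * (D1 * D2)) ^ 2 :=
    pow_le_pow_left₀ (by positivity) h1 2
  -- Cauchy with weights
  have key : ∀ {a1 a2 a3 w1 w2 w3 : ℝ}, 0 < w1 → 0 < w2 → 0 < w3 →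
      (a1 + a2 + a3) ^ 2 * (w1 * w2 * w3) ≤ (w1 + w2 + w3) * (a1 ^ 2 * (w2 * w3) + a2 ^ 2 * (w1 * w3) + a3 ^ 2 * (w1 * w2)) := by
    intro a1 a2 a3 w1 w2 w3 h1 h2 h3
    have e : (w1 + w2 + w3) * (a1 ^ 2 * (w2 * w3) + a2 ^ 2 * (w1 * w3) + a3 ^ 2 * (w1 * w2)) -
        (a1 + a2 + a3) ^ 2 * (w1 * w2 * w3) =
        w3 * (a1 * w2 - a2 * w1) ^ 2 + w2 * (a1 * w3 - a3 * w1) ^ 2 + w1 * (a2 * w3 - a3 * w2) ^ 2 := by ring
    have : 0 ≤ w3 * (a1 * w2 - a2 * w1) ^ 2 + w2 * (a1 * w3 - a3 * w1) ^ 2 + w1 * (a2 * w3 - a3 * w2) ^ 2 := by positivity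
    linarith
  have hw1 : 0 < m * t * t' * (D2 * D3) ^ 2 := by positivity
  have hw2 : 0 < t' * (D1 * D3) ^ 2 := by positivity
  have hw3 : 0 < t * (D1 * D2) ^ 2 := by positivity
  have h3 := key (a1 := u * (D2 * D3)) (a2 := v * (D1 * D3)) (a3 := w * (D1 * D2)) hw1 hw2 hw3
  set W := m * t * t' * (D2 * D3) ^ 2 + t' * (D1 * D3) ^ 2 + t * (D1 * D2) ^ 2 with hW
  set Z : ℝ := (D1 * D2 * D3) ^ 4 * (m * t * t') with hZ
  have hZ0 : 0 < Z := by positivity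
  have h4 : (u * (D2 * D3)) ^ 2 * (t' * (D1 * D3) ^ 2 * (t * (D1 * D2) ^ 2)) +
      (v * (D1 * D3)) ^ 2 * (m * t * t' * (D2 * D3) ^ 2 * (t * (D1 * D2) ^ 2)) +
      (w * (D1 * D2)) ^ 2 * (m * t * t' * (D2 * D3) ^ 2 * (t' * (D1 * D3) ^ 2)) ≤ Z * c := by
    have e : (u * (D2 * D3)) ^ 2 * (t' * (D1 * D3) ^ 2 * (t * (D1 * D2) ^ 2)) +
      (v * (D1 * D3)) ^ 2 * (m * t * t' * (D2 * D3) ^ 2 * (t * (D1 * D2) ^ 2)) +
      (w * (D1 * D2)) ^ 2 * (m * t * t' * (D2 * D3) ^ 2 * (t' * (D1 * D3) ^ 2)) =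
      (D1 * D2 * D3) ^ 4 * (t * t') * (u ^ 2 + m * t * v ^ 2 + m * t' * w ^ 2) := by ring
    rw [e, hZ]
    have h5 : u ^ 2 + m * t * v ^ 2 + m * t' * w ^ 2 ≤ m * c := by
      have h6 : m * t * v ^ 2 ≤ m * t * B := mul_le_mul_of_nonneg_left hv (by positivity)
      have h7 : m * t' * w ^ 2 ≤ m * t' * C := mul_le_mul_of_nonneg_left hw (by positivity)
      nlinarith
    calc (D1 * D2 * D3) ^ 4 * (t * t') * (u ^ 2 + m * t * v ^ 2 + m * t' * w ^ 2)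
        ≤ (D1 * D2 * D3) ^ 4 * (t * t') * (m * c) := mul_le_mul_of_nonneg_left h5 (by positivity)
      _ = _ := by ring
  have h5 : (D1 * D2 * D3) ^ 2 * (m * t * t' * (D2 * D3) ^ 2 * (t' * (D1 * D3) ^ 2) * (t * (D1 * D2) ^ 2)) ≤
      W * (Z * c) := by
    refine (mul_le_mul_of_nonneg_right h2 (by positivity)).trans (h3.trans ?_)
    exact mul_le_mul_of_nonneg_left h4 (by positivity)
  have h6 : Z * (t * t' * (D1 * D2 * D3) ^ 2) ≤ Z * (c * W) := by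
    have e : Z * (t * t' * (D1 * D2 * D3) ^ 2) =
        (D1 * D2 * D3) ^ 2 * (m * t * t' * (D2 * D3) ^ 2 * (t' * (D1 * D3) ^ 2) * (t * (D1 * D2) ^ 2)) := by
      rw [hZ]; ring
    rw [e]
    refine h5.trans (le_of_eq ?_)
    ring
  exact le_of_mul_le_mul_left h6 hZ0

/-- `S` with constant sum on the nonidentity elements -/
theorem card_of_const {P : Type*} [Group P] [Fintype P] {S : Finset (P →* ℂˣ)} (hne : S.Nonempty) (h1 : 1 ∉ S) {c : ℂ}
    (h : ∀ z : P, z ≠ 1 → ∑ l ∈ S, ((l z : ℂˣ) : ℂ) = c) : S.card + 1 = Fintype.card P := by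
  classical
  obtain ⟨l₀, hl₀⟩ := hne
  have hl₀1 : (l₀⁻¹ : P →* ℂˣ) ≠ 1 := fun h2 => h1 (by
    have h3 : l₀ = 1 := by
      ext z
      have h4 := DFunLike.congr_fun h2 z
      rw [MonoidHom.inv_apply, MonoidHom.one_apply, inv_eq_one] at h4
      rw [h4, MonoidHom.one_apply]
    rwa [h3] at hl₀)
  -- the trivial character
  have h2 : ∑ z : P, ∑ l ∈ S, ((l z : ℂˣ) : ℂ) = 0 := by
    rw [Finset.sum_comm]
    exact Finset.sum_eq_zero fun l hl => sum_lin fun h3 => h1 (h3 ▸ hl)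
  have h3 : ∑ z : P, (∑ l ∈ S, ((l z : ℂˣ) : ℂ)) * (((l₀⁻¹ : P →* ℂˣ) z : ℂˣ) : ℂ) = Fintype.card P := by
    have e : ∀ z : P, (∑ l ∈ S, ((l z : ℂˣ) : ℂ)) * (((l₀⁻¹ : P →* ℂˣ) z : ℂˣ) : ℂ) =
        ∑ l ∈ S, (((l * l₀⁻¹ : P →* ℂˣ) z : ℂˣ) : ℂ) := by
      intro z
      rw [Finset.sum_mul]
      refine Finset.sum_congr rfl fun l _ => ?_
      rw [MonoidHom.mul_apply, Units.val_mul]
    rw [Finset.sum_congr rfl fun z _ => e z, Finset.sum_comm, Finset.sum_eq_single_of_mem l₀ hl₀]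
    · have h5 : ∀ z : P, (((l₀ * l₀⁻¹ : P →* ℂˣ) z : ℂˣ) : ℂ) = 1 := fun z => by
        rw [MonoidHom.mul_apply, MonoidHom.inv_apply, mul_inv_cancel, Units.val_one]
      rw [Finset.sum_congr rfl fun z _ => h5 z]
      simp
    · intro l _ hl
      exact sum_lin fun h4 => hl (mul_inv_eq_one.1 h4)
  rw [← Finset.add_sum_erase _ _ (Finset.mem_univ (1 : P))] at h2 h3
  have h4 : ∑ z ∈ Finset.univ.erase (1 : P), ∑ l ∈ S, ((l z : ℂˣ) : ℂ) = ((Fintype.card P : ℂ) - 1) * c := by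
    rw [Finset.sum_congr rfl fun z hz => h z (Finset.mem_erase.1 hz).1, Finset.sum_const,
      Finset.card_erase_of_mem (Finset.mem_univ _), Finset.card_univ, nsmul_eq_mul,
      Nat.cast_sub Fintype.card_pos, Nat.cast_one]
  have h5 : ∑ z ∈ Finset.univ.erase (1 : P), (((l₀⁻¹ : P →* ℂˣ) z : ℂˣ) : ℂ) = -1 := by
    have := sum_lin hl₀1
    rw [← Finset.add_sum_erase _ _ (Finset.mem_univ (1 : P)), map_one, Units.val_one] at this
    linear_combination this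
  have h6 : ∑ z ∈ Finset.univ.erase (1 : P), (∑ l ∈ S, ((l z : ℂˣ) : ℂ)) * (((l₀⁻¹ : P →* ℂˣ) z : ℂˣ) : ℂ) = -c := by
    rw [Finset.sum_congr rfl fun z hz => by rw [h z (Finset.mem_erase.1 hz).1], ← Finset.mul_sum, h5]
    ring
  rw [h4] at h2
  rw [h6] at h3
  simp only [map_one, Units.val_one, Finset.sum_const, nsmul_eq_mul, mul_one] at h2 h3
  -- `|S| + (q - 1) c = 0`, `|S| - c = q`
  have h7 : (Fintype.card P : ℂ) * ((S.card : ℂ) + 1 - Fintype.card P) = 0 := by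
    linear_combination h2 + ((Fintype.card P : ℂ) - 1) * h3
  have h8 : (Fintype.card P : ℂ) ≠ 0 := by exact_mod_cast Fintype.card_ne_zero
  have h9 := (mul_eq_zero.1 h7).resolve_left h8
  have h10 : ((S.card + 1 : ℕ) : ℂ) = (Fintype.card P : ℂ) := by push_cast; linear_combination h9
  exact_mod_cast h10

/-- **The characters at a self-centralizing Sylow subgroup of prime order**: ordinary ones `F`, exceptional ones `E` -/
structure Dec (G : Type u) [Group G] [Finite G] (p e t f : ℕ) (P : Subgroup G) where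
  F : Finset (IrrCharacter G)
  E : Finset (IrrCharacter G)
  dis : Disjoint F E
  cF : F.card ≤ f
  cE : E.Nonempty → E.card = t ∧ 2 ≤ t
  one : ∃ χ₁ ∈ F, (χ₁ : G → ℂ) = 1
  nF : ∀ χ ∈ F, ∃ c : ℂ, ‖c‖ = 1 ∧ ∀ x ∈ P, x ≠ 1 → (χ : G → ℂ) x = c
  nE : ∀ χ ∈ E, ¬ ∃ c : ℂ, ∀ x ∈ P, x ≠ 1 → (χ : G → ℂ) x = c
  van : ∀ χ : IrrCharacter G, χ ∉ F → χ ∉ E → ∀ x ∈ P, x ≠ 1 → (χ : G → ℂ) x = 0
  agree : ∀ Θ ∈ E, ∀ Θ' ∈ E, ∀ z : G, ¬ p ∣ orderOf z → (Θ : G → ℂ) z = (Θ' : G → ℂ) z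
  sumE : E.Nonempty → ∀ x ∈ P, x ≠ 1 → ‖∑ Θ ∈ E, (Θ : G → ℂ) x‖ = 1
  sep : ∀ Θ ∈ E, ∀ Θ' ∈ E, Θ ≠ Θ' → ∃ z ∈ P, z ≠ 1 ∧ (Θ : G → ℂ) z ≠ (Θ' : G → ℂ) z
  resF : ∀ χ ∈ F, charDegree (χ : G → ℂ) % p = 1 ∨ charDegree (χ : G → ℂ) % p = p - 1
  resE : ∀ χ ∈ E, charDegree (χ : G → ℂ) % p = e ∨ charDegree (χ : G → ℂ) % p = p - e

theorem exists_dec [Fintype (IrrCharacter G)] {p : ℕ} [Fact p.Prime] (hp2 : p ≠ 2) {P : Sylow p G}
    (hP : Nat.card P = p) (hC : centralizer (P : Set G) = (P : Subgroup G)) {e t : ℕ}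
    (he : (centralizer (P : Set G)).relIndex (normalizer (P : Set G)) = e) (ht : e * t = p - 1) :
    Nonempty (Dec G p e t (if t = 1 then e + 1 else e) (P : Subgroup G)) := by
  classical
  have := Fintype.ofFinite G
  have := Fintype.ofFinite (P : Subgroup G)
  have hp : p.Prime := Fact.out
  have hp2' := hp.two_le
  obtain ⟨NE, X, ε, d, S, hdis, hNE, hX, hε, hd, ⟨χ₁, hχ₁, hχ₁1, hχ₁2⟩, hv, hS, hSd, hsum, hz⟩ :=
    SmallSimple.TheoremBCor.theoremB_selfCent p hp2 P hP hC e t he ht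
  have he0 : 0 < e := Nat.pos_of_ne_zero fun h => by rw [h, zero_mul] at ht; omega
  have ht0 : 0 < t := Nat.pos_of_ne_zero fun h => by rw [h, mul_zero] at ht; omega
  have hep : e < p := by
    have h3 : e * 1 ≤ e * t := Nat.mul_le_mul_left _ ht0
    omega
  have hdC : (d : ℂ) * d = 1 := by rcases hd with h | h <;> rw [h] <;> norm_num
  have hdn : ‖(d : ℂ)‖ = 1 := by rcases hd with h | h <;> rw [h] <;> simp
  have hagree : ∀ Θ ∈ X, ∀ Θ' ∈ X, ∀ z : G, ¬ p ∣ orderOf z → (Θ : G → ℂ) z = (Θ' : G → ℂ) z := by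
    intro Θ hΘ Θ' hΘ' z hzo
    have h1 : (d : ℂ) * (Θ : G → ℂ) z = d * (Θ' : G → ℂ) z := by
      rw [← hsum Θ hΘ z hzo, ← hsum Θ' hΘ' z hzo]
    linear_combination (d : ℂ) * h1 - ((Θ : G → ℂ) z - (Θ' : G → ℂ) z) * hdC
  have hdeg : ∀ χ : IrrCharacter G, (χ : G → ℂ) 1 = charDegree (χ : G → ℂ) := fun χ => Blocks.Knorr.charDegree_eq χ.2
  have hdeg0 : ∀ χ : IrrCharacter G, charDegree (χ : G → ℂ) ≠ 0 := fun χ h =>
    Nat.card_pos.ne' (Nat.eq_zero_of_zero_dvd (h ▸ Blocks.Knorr.charDegree_dvd χ.2 : 0 ∣ Nat.card G))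
  have ho1 : ¬ p ∣ orderOf (1 : G) := by rw [orderOf_one]; exact fun h => hp.one_lt.ne' (Nat.dvd_one.1 h)
  have hnNE : ∀ χ ∈ NE, ∃ c : ℂ, ‖c‖ = 1 ∧ ∀ x ∈ P, x ≠ 1 → (χ : G → ℂ) x = c := fun χ hχ =>
    ⟨ε χ, by rcases hε χ hχ with h | h <;> rw [h] <;> simp, hv χ hχ⟩
  have hresc : ∀ χ : IrrCharacter G, ∀ c : ℤ, (c = 1 ∨ c = -1) → (∀ x ∈ P, x ≠ 1 → (χ : G → ℂ) x = c) →
      charDegree (χ : G → ℂ) % p = 1 ∨ charDegree (χ : G → ℂ) % p = p - 1 := by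
    intro χ c hc hcv
    obtain ⟨m, hm⟩ := res_const (P := (P : Subgroup G)) hP hp.two_le (χ := χ) (c := c) hcv
    rcases hc with h | h
    · left
      rw [h] at hm
      have h7 : (charDegree (χ : G → ℂ) : ℤ) % p = 1 := by
        rw [hm, Int.add_mul_emod_self_left]
        exact Int.emod_eq_of_lt (by norm_num) (by exact_mod_cast hp.one_lt)
      exact_mod_cast h7
    · right
      rw [h] at hm
      have h7 : (charDegree (χ : G → ℂ) : ℤ) % p = ((p - 1 : ℕ) : ℤ) := by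
        rw [hm, show (-1 : ℤ) + p * m = ((p - 1 : ℕ) : ℤ) + p * (m - 1) by
          rw [Nat.cast_sub (by omega)]; push_cast; ring, Int.add_mul_emod_self_left]
        exact Int.emod_eq_of_lt (by positivity) (by omega)
      exact_mod_cast h7
  -- the sum of the exceptional characters
  have hsplit : ∀ f : IrrCharacter G → ℂ, (∀ χ, χ ∉ NE → χ ∉ X → f χ = 0) →
      ∑ χ, f χ = ∑ χ ∈ NE, f χ + ∑ χ ∈ X, f χ := by
    intro f hf
    rw [← Finset.sum_union hdis]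
    symm
    refine Finset.sum_subset (Finset.subset_univ _) fun χ _ hχ => ?_
    rw [Finset.mem_union, not_or] at hχ
    exact hf χ hχ.1 hχ.2
  obtain ⟨Θ₀, hΘ₀⟩ : X.Nonempty := Finset.card_pos.1 (by omega)
  have hXx : ∀ x ∈ P, x ≠ 1 → ∑ Θ ∈ X, (Θ : G → ℂ) x = ((-d : ℤ) : ℂ) := by
    intro x hx hx1
    have hvan : ∀ χ : IrrCharacter G, χ ∉ NE → χ ∉ X → (χ : G → ℂ) x = 0 := fun χ h1 h2 => (hz χ h1 h2).1 x hx hx1
    have h1 := one_eq (G := G) (a := x) (b := 1) (by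
      rw [isConj_one_left]
      exact hx1)
    rw [hsplit _ fun χ h1 h2 => by rw [hvan χ h1 h2, zero_mul]] at h1
    have h2 : ∑ χ ∈ NE, (χ : G → ℂ) x * conj ((χ : G → ℂ) 1) = d * (Θ₀ : G → ℂ) 1 := by
      rw [← hsum Θ₀ hΘ₀ 1 ho1]
      refine Finset.sum_congr rfl fun χ hχ => ?_
      rw [hv χ hχ x hx hx1, hdeg]
      simp
    have h3 : ∑ χ ∈ X, (χ : G → ℂ) x * conj ((χ : G → ℂ) 1) = (∑ χ ∈ X, (χ : G → ℂ) x) * (Θ₀ : G → ℂ) 1 := by
      rw [Finset.sum_mul]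
      refine Finset.sum_congr rfl fun χ hχ => ?_
      rw [hagree χ hχ Θ₀ hΘ₀ 1 ho1, hdeg]
      simp
    rw [h2, h3, ← add_mul] at h1
    have h4 : (Θ₀ : G → ℂ) 1 ≠ 0 := by rw [hdeg]; exact_mod_cast hdeg0 Θ₀
    have h5 := (mul_eq_zero.1 h1).resolve_right h4
    push_cast
    linear_combination h5
  by_cases ht1 : t = 1
  · -- no exceptional characters
    rw [if_pos ht1]
    have hXe : ∀ Θ ∈ X, Θ = Θ₀ := fun Θ hΘ => Finset.card_le_one.1 (by omega) Θ hΘ Θ₀ hΘ₀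
    have hval : ∀ Θ ∈ X, ∀ x ∈ P, x ≠ 1 → (Θ : G → ℂ) x = ((-d : ℤ) : ℂ) := by
      intro Θ hΘ x hx hx1
      rw [hXe Θ hΘ, ← hXx x hx hx1]
      symm
      exact Finset.sum_eq_single_of_mem Θ₀ hΘ₀ fun Θ hΘ hne => absurd (hXe Θ hΘ) hne
    exact ⟨{
      F := NE ∪ X
      E := ∅
      dis := Finset.disjoint_empty_right _
      cF := by rw [Finset.card_union_of_disjoint hdis, hNE, hX, ht1]
      cE := fun h => absurd h Finset.not_nonempty_empty
      one := ⟨χ₁, Finset.mem_union_left _ hχ₁, hχ₁1⟩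
      nF := fun χ hχ => (Finset.mem_union.1 hχ).elim (fun h => hnNE χ h) fun h =>
        ⟨((-d : ℤ) : ℂ), by rcases hd with h | h <;> rw [h] <;> simp, hval χ h⟩
      nE := fun χ hχ => absurd hχ (Finset.notMem_empty _)
      van := fun χ h1 _ => (hz χ (fun h => h1 (Finset.mem_union_left _ h))
        fun h => h1 (Finset.mem_union_right _ h)).1
      agree := fun Θ hΘ => absurd hΘ (Finset.notMem_empty _)
      sumE := fun h => absurd h Finset.not_nonempty_empty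
      sep := fun Θ hΘ => absurd hΘ (Finset.notMem_empty _)
      resF := fun χ hχ => (Finset.mem_union.1 hχ).elim (fun h => hresc χ (ε χ) (hε χ h) (hv χ h)) fun h =>
        hresc χ (-d) (by rcases hd with h | h <;> omega) (hval χ h)
      resE := fun χ hχ => absurd hχ (Finset.notMem_empty _) }⟩
  · rw [if_neg ht1]
    exact ⟨{
      F := NE
      E := X
      dis := hdis
      cF := hNE.le
      cE := fun _ => ⟨hX, by omega⟩
      one := ⟨χ₁, hχ₁, hχ₁1⟩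
      nF := hnNE
      nE := fun χ hχ hcon => by
        obtain ⟨c, hc⟩ := hcon
        have h1 := card_of_const (S := S χ) (c := d * c) (Finset.card_pos.1 (by rw [(hS χ hχ).1]; exact he0))
          (hS χ hχ).2.1 (fun z hz1 => by
            have h2 := (hS χ hχ).2.2 z hz1
            have h3 := hc (z : G) z.2 (fun h => hz1 (Subtype.ext h))
            rw [h3] at h2
            rw [h2, ← mul_assoc, hdC, one_mul])
        rw [(hS χ hχ).1, ← Nat.card_eq_fintype_card] at h1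
        have h2 : Nat.card (P : Subgroup G) = p := hP
        rw [h2] at h1
        have h3 : e * t = e := by omega
        have h4 : t = 1 := Nat.eq_of_mul_eq_mul_left he0 (by rw [h3, mul_one])
        exact ht1 h4
      van := fun χ h1 h2 => (hz χ h1 h2).1
      agree := hagree
      sumE := fun _ x hx hx1 => by
        rw [hXx x hx hx1]
        rcases hd with h | h <;> rw [h] <;> simp
      sep := fun Θ hΘ Θ' hΘ' hne => by
        by_contra hcon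
        push Not at hcon
        refine not_disjoint (S := S Θ) (S' := S Θ') (Finset.card_pos.1 (by rw [(hS Θ hΘ).1]; exact he0))
          (by rw [(hS Θ hΘ).1, (hS Θ' hΘ').1]) (fun z hz1 => ?_) (hSd Θ hΘ Θ' hΘ' hne)
        have h4 := hcon (z : G) z.2 (fun h => hz1 (Subtype.ext h))
        rw [(hS Θ hΘ).2.2 z hz1, (hS Θ' hΘ').2.2 z hz1] at h4
        linear_combination (d : ℂ) * h4 - (∑ l ∈ S Θ, ((l z : ℂˣ) : ℂ) - ∑ l ∈ S Θ', ((l z : ℂˣ) : ℂ)) * hdC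
      resF := fun χ hχ => hresc χ (ε χ) (hε χ hχ) (hv χ hχ)
      resE := fun χ hχ => by
        obtain ⟨m, hm⟩ := res_exc (P := (P : Subgroup G)) hP (χ := χ) (hS χ hχ).1 (hS χ hχ).2.1 (hS χ hχ).2.2
        rcases hd with h | h
        · left
          rw [h] at hm
          have h7 : (charDegree (χ : G → ℂ) : ℤ) % p = e := by
            rw [hm, one_mul, Int.add_mul_emod_self_left]
            exact Int.emod_eq_of_lt (by positivity) (by exact_mod_cast hep)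
          exact_mod_cast h7
        · right
          rw [h] at hm
          have h7 : (charDegree (χ : G → ℂ) : ℤ) % p = ((p - e : ℕ) : ℤ) := by
            rw [hm, show (-1 : ℤ) * e + p * m = ((p - e : ℕ) : ℤ) + p * (m - 1) by
              rw [Nat.cast_sub (by omega)]; ring, Int.add_mul_emod_self_left]
            exact Int.emod_eq_of_lt (by positivity) (by omega)
          exact_mod_cast h7 }⟩

/-- the contribution of the exceptional characters -/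
theorem Dec.fam {p e t f : ℕ} {P : Subgroup G} (A : Dec G p e t f P) {x y g : G} (hx : x ∈ P) (hx1 : x ≠ 1)
    (hyo : ¬ p ∣ orderOf y) (hgo : ¬ p ∣ orderOf g) (hp1 : ¬ p ∣ 1) (hy : ∀ Θ ∈ A.E, ‖(Θ : G → ℂ) y‖ ≤ 1) {D : ℕ}
    (hD0 : 0 < D) (hD : ∀ Θ ∈ A.E, (Θ : G → ℂ) y ≠ 0 → D ≤ charDegree (Θ : G → ℂ)) :
    ∃ v : ℝ, 0 ≤ v ∧ ‖∑ Θ ∈ A.E, (Θ : G → ℂ) x * (Θ : G → ℂ) y * conj ((Θ : G → ℂ) g) / (Θ : G → ℂ) 1‖ ≤ v / D ∧
      t * v ^ 2 ≤ ∑ Θ ∈ A.E, ‖(Θ : G → ℂ) g‖ ^ 2 := by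
  have hDR : (0 : ℝ) < D := by exact_mod_cast hD0
  have hdeg : ∀ χ : IrrCharacter G, (χ : G → ℂ) 1 = charDegree (χ : G → ℂ) := fun χ => Blocks.Knorr.charDegree_eq χ.2
  rcases A.E.eq_empty_or_nonempty with hE | ⟨Θ₀, hΘ₀⟩
  · refine ⟨0, le_rfl, ?_, ?_⟩
    · rw [hE]; simp
    · rw [hE]; simp
  · refine ⟨‖(Θ₀ : G → ℂ) g‖, norm_nonneg _, ?_, ?_⟩
    · have h1 : ∑ Θ ∈ A.E, (Θ : G → ℂ) x * (Θ : G → ℂ) y * conj ((Θ : G → ℂ) g) / (Θ : G → ℂ) 1 =
          (∑ Θ ∈ A.E, (Θ : G → ℂ) x) * ((Θ₀ : G → ℂ) y * conj ((Θ₀ : G → ℂ) g) / (Θ₀ : G → ℂ) 1) := by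
        rw [Finset.sum_mul]
        refine Finset.sum_congr rfl fun Θ hΘ => ?_
        rw [A.agree Θ hΘ Θ₀ hΘ₀ y hyo, A.agree Θ hΘ Θ₀ hΘ₀ g hgo,
          A.agree Θ hΘ Θ₀ hΘ₀ 1 (by rw [orderOf_one]; exact hp1)]
        ring
      rw [h1, norm_mul, A.sumE ⟨Θ₀, hΘ₀⟩ x hx hx1, one_mul, norm_div, norm_mul, Complex.norm_conj, hdeg,
        Complex.norm_natCast]
      by_cases hy0 : (Θ₀ : G → ℂ) y = 0
      · rw [hy0]; simp; positivity
      have h5 : (D : ℝ) ≤ charDegree (Θ₀ : G → ℂ) := by exact_mod_cast hD Θ₀ hΘ₀ hy0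
      calc ‖(Θ₀ : G → ℂ) y‖ * ‖(Θ₀ : G → ℂ) g‖ / (charDegree (Θ₀ : G → ℂ) : ℝ)
          ≤ 1 * ‖(Θ₀ : G → ℂ) g‖ / (charDegree (Θ₀ : G → ℂ) : ℝ) := by
            refine div_le_div_of_nonneg_right ?_ (by positivity)
            exact mul_le_mul_of_nonneg_right (hy Θ₀ hΘ₀) (norm_nonneg _)
        _ = ‖(Θ₀ : G → ℂ) g‖ / (charDegree (Θ₀ : G → ℂ) : ℝ) := by rw [one_mul]
        _ ≤ _ := div_le_div_of_nonneg_left (norm_nonneg _) hDR h5
    · rw [Finset.sum_congr rfl fun Θ hΘ => by rw [A.agree Θ hΘ Θ₀ hΘ₀ g hgo], Finset.sum_const,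
        (A.cE ⟨Θ₀, hΘ₀⟩).1, nsmul_eq_mul]

omit [Finite G] in
/-- elements of a subgroup of prime order are regular for the other primes -/
theorem regular_of_mem {p q : ℕ} (hp : p.Prime) (hq : q.Prime) (hpq : p ≠ q) {Q : Subgroup G} (hQ : Nat.card Q = q)
    {z : G} (hz : z ∈ Q) : ¬ p ∣ orderOf z := by
  intro h
  have h1 : orderOf z ∣ q := by
    have : orderOf (⟨z, hz⟩ : Q) ∣ Nat.card Q := orderOf_dvd_natCard _
    rw [hQ] at this
    rwa [Subgroup.orderOf_mk] at this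
  exact hpq ((Nat.prime_dvd_prime_iff_eq hp hq).1 (h.trans h1))

/-- **No character is exceptional for both primes.** -/
theorem Dec.not_both {p q e t f e' t' f' : ℕ} (hp : p.Prime) (hq : q.Prime) (hpq : p ≠ q) {P Q : Subgroup G}
    (hQ : Nat.card Q = q) (A : Dec G p e t f P) (B : Dec G q e' t' f' Q) {χ : IrrCharacter G} (h : χ ∈ A.E) :
    χ ∉ B.E := by
  intro h'
  obtain ⟨hc, ht⟩ := A.cE ⟨χ, h⟩
  obtain ⟨Θ, hΘ, hne⟩ := Finset.exists_mem_ne (by omega : 1 < A.E.card) χ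
  have hag : ∀ z ∈ Q, (χ : G → ℂ) z = (Θ : G → ℂ) z := fun z hz =>
    A.agree χ h Θ hΘ z (regular_of_mem hp hq hpq hQ hz)
  by_cases h2 : Θ ∈ B.E
  · obtain ⟨z, hz, -, hzn⟩ := B.sep χ h' Θ h2 hne.symm
    exact hzn (hag z hz)
  · by_cases h3 : Θ ∈ B.F
    · obtain ⟨c, -, hc⟩ := B.nF Θ h3
      exact B.nE χ h' ⟨c, fun z hz hz1 => by rw [hag z hz, hc z hz hz1]⟩
    · exact B.nE χ h' ⟨0, fun z hz hz1 => by rw [hag z hz, B.van Θ h3 h2 z hz hz1]⟩

theorem Dec.norm_le {q e' t' f' : ℕ} {Q : Subgroup G} (B : Dec G q e' t' f' Q) {χ : IrrCharacter G} (h : χ ∉ B.E)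
    {y : G} (hy : y ∈ Q) (hy1 : y ≠ 1) : ‖(χ : G → ℂ) y‖ ≤ 1 := by
  by_cases h3 : χ ∈ B.F
  · obtain ⟨c, hc1, hc⟩ := B.nF χ h3
    rw [hc y hy hy1, hc1]
  · rw [B.van χ h3 h y hy hy1]
    simp

theorem Dec.mem_F {q e' t' f' : ℕ} {Q : Subgroup G} (B : Dec G q e' t' f' Q) {χ : IrrCharacter G} (h : χ ∉ B.E)
    {y : G} (hy : y ∈ Q) (hy1 : y ≠ 1) (h0 : (χ : G → ℂ) y ≠ 0) : χ ∈ B.F := by
  by_contra h3
  exact h0 (B.van χ h3 h y hy hy1)

/-- **The pair lemma.** -/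
theorem prd_of_dec [Fintype (IrrCharacter G)] {p q e t f e' t' f' : ℕ} (hp : p.Prime) (hq : q.Prime) (hpq : p ≠ q)
    {P Q : Subgroup G} (hP : Nat.card P = p) (hQ : Nat.card Q = q) (A : Dec G p e t f P) (B : Dec G q e' t' f' Q)
    (ht : 0 < t) (ht' : 0 < t') {x y g : G} (hx : x ∈ P) (hx1 : x ≠ 1) (hy : y ∈ Q) (hy1 : y ≠ 1)
    (hg : ¬ p ∣ orderOf g) (hg' : ¬ q ∣ orderOf g) {m D1 D2 D3 : ℕ} (hm : f ≤ m + 1 ∨ f' ≤ m + 1) (hm0 : 0 < m)
    (hD1 : ∀ χ : IrrCharacter G, (χ : G → ℂ) ≠ 1 →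
      (charDegree (χ : G → ℂ) % p = 1 ∨ charDegree (χ : G → ℂ) % p = p - 1) →
      (charDegree (χ : G → ℂ) % q = 1 ∨ charDegree (χ : G → ℂ) % q = q - 1) → D1 ≤ charDegree (χ : G → ℂ))
    (hD2 : ∀ χ : IrrCharacter G, (χ : G → ℂ) ≠ 1 →
      (charDegree (χ : G → ℂ) % p = e ∨ charDegree (χ : G → ℂ) % p = p - e) →
      (charDegree (χ : G → ℂ) % q = 1 ∨ charDegree (χ : G → ℂ) % q = q - 1) → D2 ≤ charDegree (χ : G → ℂ))
    (hD3 : ∀ χ : IrrCharacter G, (χ : G → ℂ) ≠ 1 →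
      (charDegree (χ : G → ℂ) % p = 1 ∨ charDegree (χ : G → ℂ) % p = p - 1) →
      (charDegree (χ : G → ℂ) % q = e' ∨ charDegree (χ : G → ℂ) % q = q - e') → D3 ≤ charDegree (χ : G → ℂ))
    (h10 : 0 < D1) (h20 : 0 < D2) (h30 : 0 < D3)
    (hn : Nat.card (centralizer ({g} : Set G)) * (m * t * t' * (D2 * D3) ^ 2 + t' * (D1 * D3) ^ 2 + t * (D1 * D2) ^ 2) <
      t * t' * (D1 * D2 * D3) ^ 2) :
    ∃ a b : G, a * x * a⁻¹ * (b * y * b⁻¹) = g := by
  classical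
  have := Fintype.ofFinite G
  have hyo := regular_of_mem hp hq hpq hQ hy
  have hxo := regular_of_mem hq hp hpq.symm hP hx
  have hp1 : ¬ p ∣ 1 := fun h => hp.one_lt.ne' (Nat.dvd_one.1 h)
  have hq1 : ¬ q ∣ 1 := fun h => hq.one_lt.ne' (Nat.dvd_one.1 h)
  obtain ⟨χ₁, hχ₁, hχ₁1⟩ := A.one
  obtain ⟨χ₂, hχ₂, hχ₂1⟩ := B.one
  obtain rfl : χ₂ = χ₁ := Subtype.ext (hχ₂1.trans hχ₁1.symm)
  have hEE : ∀ χ ∈ A.E, χ ∉ B.E := fun χ h => Dec.not_both hp hq hpq hQ A B h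
  have hEE' : ∀ χ ∈ B.E, χ ∉ A.E := fun χ h => Dec.not_both hq hp hpq.symm hP B A h
  have hneE : ∀ {r e t f : ℕ} {R : Subgroup G} (C : Dec G r e t f R), ∀ χ ∈ C.E, (χ : G → ℂ) ≠ 1 := by
    intro r e t f R C χ hχ h1
    exact C.nE χ hχ ⟨1, fun z _ _ => by rw [h1]; rfl⟩
  have hdeg : ∀ χ : IrrCharacter G, (χ : G → ℂ) 1 = charDegree (χ : G → ℂ) := fun χ => Blocks.Knorr.charDegree_eq χ.2
  have hnd : ∀ χ : IrrCharacter G, ‖(χ : G → ℂ) 1‖ = charDegree (χ : G → ℂ) := fun χ => by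
    rw [hdeg, Complex.norm_natCast]
  obtain ⟨v, hv0, hv1, hv2⟩ := A.fam hx hx1 hyo hg hp1 (fun Θ hΘ => B.norm_le (hEE Θ hΘ) hy hy1) h20
    (fun Θ hΘ h0 => hD2 Θ (hneE A Θ hΘ) (A.resE Θ hΘ) (B.resF Θ (B.mem_F (hEE Θ hΘ) hy hy1 h0)))
  obtain ⟨w, hw0, hw1, hw2⟩ := B.fam hy hy1 hxo hg' hq1 (fun Θ hΘ => A.norm_le (hEE' Θ hΘ) hx hx1) h30
    (fun Θ hΘ h0 => hD3 Θ (hneE B Θ hΘ) (A.resF Θ (A.mem_F (hEE' Θ hΘ) hx hx1 h0)) (B.resE Θ hΘ))
  by_contra hno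
  push Not at hno
  have h0 : (Nat.card {p : G × G // p.1 * x * p.1⁻¹ * (p.2 * y * p.2⁻¹) = g} : ℂ) = 0 := by
    have : IsEmpty {p : G × G // p.1 * x * p.1⁻¹ * (p.2 * y * p.2⁻¹) = g} := ⟨fun p => hno p.1.1 p.1.2 p.2⟩
    rw [Nat.card_of_isEmpty, Nat.cast_zero]
  rw [Characters.ClassMul.card_conj_mul_conj] at h0
  have hG0 : (Nat.card G : ℂ) ≠ 0 := by exact_mod_cast Nat.card_pos.ne'
  have hsum0 := (mul_eq_zero.1 h0).resolve_left hG0
  set M : Finset (IrrCharacter G) := (A.F ∩ B.F).erase χ₂ with hM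
  set T : Finset (IrrCharacter G) := (A.F ∩ B.F) ∪ (A.E ∪ B.E) with hT
  have hdAB : Disjoint A.E B.E := Finset.disjoint_left.2 fun χ h => hEE χ h
  have hdF : Disjoint (A.F ∩ B.F) (A.E ∪ B.E) := by
    rw [Finset.disjoint_union_right]
    exact ⟨Finset.disjoint_of_subset_left Finset.inter_subset_left A.dis,
      Finset.disjoint_of_subset_left Finset.inter_subset_right B.dis⟩
  have hsplit : ∑ χ : IrrCharacter G, (χ : G → ℂ) x * (χ : G → ℂ) y * conj ((χ : G → ℂ) g) / (χ : G → ℂ) 1 =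
      ∑ χ ∈ T, (χ : G → ℂ) x * (χ : G → ℂ) y * conj ((χ : G → ℂ) g) / (χ : G → ℂ) 1 := by
    symm
    refine Finset.sum_subset (Finset.subset_univ _) fun χ _ hχ => ?_
    rw [hT, Finset.mem_union, Finset.mem_union, not_or, not_or, Finset.mem_inter, not_and_or] at hχ
    obtain ⟨h1 | h1, h2, h3⟩ := hχ
    · rw [A.van χ h1 h2 x hx hx1]; simp
    · rw [B.van χ h1 h3 y hy hy1]; simp
  have hmem : χ₂ ∈ A.F ∩ B.F := Finset.mem_inter.2 ⟨hχ₁, hχ₂⟩
  rw [hsplit, hT, Finset.sum_union hdF, Finset.sum_union hdAB, ← Finset.add_sum_erase _ _ hmem, hχ₁1] at hsum0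
  simp only [Pi.one_apply, map_one, mul_one, div_one] at hsum0
  have hne : ∀ χ ∈ M, (χ : G → ℂ) ≠ 1 := fun χ hχ h =>
    Finset.ne_of_mem_erase hχ (Subtype.ext (h.trans hχ₁1.symm))
  have hw1' : ‖∑ Θ ∈ B.E, (Θ : G → ℂ) x * (Θ : G → ℂ) y * conj ((Θ : G → ℂ) g) / (Θ : G → ℂ) 1‖ ≤ w / D3 := by
    refine le_trans (le_of_eq ?_) hw1
    congr 1
    refine Finset.sum_congr rfl fun Θ _ => ?_
    ring
  have h1 : (1 : ℝ) ≤ ∑ χ ∈ M, ‖(χ : G → ℂ) x * (χ : G → ℂ) y * conj ((χ : G → ℂ) g) / (χ : G → ℂ) 1‖ +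
      (v / D2 + w / D3) := by
    have h2 : (1 : ℂ) = -(∑ χ ∈ M, (χ : G → ℂ) x * (χ : G → ℂ) y * conj ((χ : G → ℂ) g) / (χ : G → ℂ) 1) +
        (-(∑ χ ∈ A.E, (χ : G → ℂ) x * (χ : G → ℂ) y * conj ((χ : G → ℂ) g) / (χ : G → ℂ) 1) +
        -(∑ χ ∈ B.E, (χ : G → ℂ) x * (χ : G → ℂ) y * conj ((χ : G → ℂ) g) / (χ : G → ℂ) 1)) := by
      linear_combination hsum0
    calc (1 : ℝ) = ‖(1 : ℂ)‖ := by simp
      _ ≤ _ := by
        rw [h2]
        refine (norm_add_le _ _).trans (add_le_add ?_ ((norm_add_le _ _).trans (add_le_add ?_ ?_)))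
        · rw [norm_neg]; exact norm_sum_le _ _
        · rw [norm_neg]; exact hv1
        · rw [norm_neg]; exact hw1'
  have hD1R : (0 : ℝ) < D1 := by exact_mod_cast h10
  have hD2R : (0 : ℝ) < D2 := by exact_mod_cast h20
  have hD3R : (0 : ℝ) < D3 := by exact_mod_cast h30
  have h2 : ∀ χ ∈ M, ‖(χ : G → ℂ) x * (χ : G → ℂ) y * conj ((χ : G → ℂ) g) / (χ : G → ℂ) 1‖ ≤
      ‖(χ : G → ℂ) g‖ / D1 := by
    intro χ hχ
    have hχ' := Finset.mem_inter.1 (Finset.mem_erase.1 hχ).2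
    obtain ⟨c, hc1, hc⟩ := A.nF χ hχ'.1
    obtain ⟨c', hc1', hc'⟩ := B.nF χ hχ'.2
    rw [norm_div, norm_mul, norm_mul, Complex.norm_conj, hc x hx hx1, hc' y hy hy1, hc1, hc1', one_mul, one_mul, hnd]
    have h5 : (D1 : ℝ) ≤ charDegree (χ : G → ℂ) := by
      exact_mod_cast hD1 χ (hne χ hχ) (A.resF χ hχ'.1) (B.resF χ hχ'.2)
    exact div_le_div_of_nonneg_left (norm_nonneg _) hD1R h5
  set u : ℝ := ∑ χ ∈ M, ‖(χ : G → ℂ) g‖ with hu
  have h4 : (D1 : ℝ) * D2 * D3 ≤ u * (D2 * D3) + v * (D1 * D3) + w * (D1 * D2) := by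
    have h5 := h1.trans (add_le_add (Finset.sum_le_sum h2) le_rfl)
    rw [← Finset.sum_div, ← hu] at h5
    have h6 := mul_le_mul_of_nonneg_right h5 (by positivity : (0 : ℝ) ≤ D1 * D2 * D3)
    have e : (u / D1 + (v / D2 + w / D3)) * (D1 * D2 * D3) = u * (D2 * D3) + v * (D1 * D3) + w * (D1 * D2) := by
      field_simp
      ring
    rw [e, one_mul] at h6
    exact h6
  have hMc : (M.card : ℝ) ≤ m := by
    have h5 : M.card = (A.F ∩ B.F).card - 1 := Finset.card_erase_of_mem hmem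
    have h6 : (A.F ∩ B.F).card ≤ m + 1 := by
      rcases hm with h | h
      · exact (Finset.card_le_card Finset.inter_subset_left).trans (A.cF.trans h)
      · exact (Finset.card_le_card Finset.inter_subset_right).trans (B.cF.trans h)
    have h7 : M.card ≤ m := by omega
    exact_mod_cast h7
  have hu2 : u ^ 2 ≤ m * ∑ χ ∈ M, ‖(χ : G → ℂ) g‖ ^ 2 := by
    refine (sq_sum_le_card_mul_sum_sq).trans ?_
    exact mul_le_mul_of_nonneg_right hMc (Finset.sum_nonneg fun χ _ => by positivity)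
  have hAB : ∑ χ ∈ M, ‖(χ : G → ℂ) g‖ ^ 2 + t * v ^ 2 + t' * w ^ 2 ≤ (Nat.card (centralizer ({g} : Set G)) : ℝ) := by
    rw [← sq_norm_cent g]
    have h6 : ∑ χ ∈ M, ‖(χ : G → ℂ) g‖ ^ 2 + (∑ χ ∈ A.E, ‖(χ : G → ℂ) g‖ ^ 2 + ∑ χ ∈ B.E, ‖(χ : G → ℂ) g‖ ^ 2) ≤
        ∑ χ : IrrCharacter G, ‖(χ : G → ℂ) g‖ ^ 2 := by
      rw [← Finset.sum_union hdAB, ← Finset.sum_union (Finset.disjoint_of_subset_left (Finset.erase_subset _ _) hdF)]
      exact Finset.sum_le_sum_of_subset_of_nonneg (Finset.subset_univ _) fun χ _ _ => by positivity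
    linarith
  have hfin := num (u := u) (v := v) (w := w) (A := ∑ χ ∈ M, ‖(χ : G → ℂ) g‖ ^ 2) (B := v ^ 2) (C := w ^ 2)
    (c := Nat.card (centralizer ({g} : Set G))) (m := m) (t := t) (t' := t')
    (by exact_mod_cast hm0) (by exact_mod_cast ht) (by exact_mod_cast ht') hD1R hD2R hD3R h4 hu2 le_rfl le_rfl hAB
  have hn' : (Nat.card (centralizer ({g} : Set G)) : ℝ) *
      (m * t * t' * (D2 * D3) ^ 2 + t' * (D1 * D3) ^ 2 + t * (D1 * D2) ^ 2) < t * t' * (D1 * D2 * D3) ^ 2 := by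
    exact_mod_cast hn
  linarith

/-- data of an element of prime order: Sylow subgroup -/
theorem exists_syl [IsSimpleGroup G] (hG : ¬ IsMulCommutative G) {N : ℕ} (hN : Nat.card G = N) {c : CD}
    [hr : Fact c.r.Prime] (hk : c.k = 1) (hok : c.ok N = true) {x : G} (hx : orderOf x = c.r)
    (hcx : Nat.card (centralizer ({x} : Set G)) = c.r) :
    ∃ P : Sylow c.r G, Nat.card P = c.r ∧ x ∈ P ∧ x ≠ 1 ∧ c.r ≠ 2 ∧ c.e * c.t = c.r - 1 ∧
      (centralizer ((P : Subgroup G) : Set G)).relIndex (normalizer ((P : Subgroup G) : Set G)) = c.e ∧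
      centralizer (P : Set G) = (P : Subgroup G) := by
  obtain ⟨P, hP, hPx, hp2, ht, he, hCP⟩ := exists_sylow hG hN hx (k := c.k) (by rw [hcx, hk, mul_one]) c.e c.t c.wl
    c.c c.b hok
  have hxP : x ∈ P := by
    have : x ∈ (P : Subgroup G) := by rw [hPx]; exact mem_zpowers x
    exact this
  have hx1 : x ≠ 1 := by rintro rfl; rw [orderOf_one] at hx; exact hr.out.one_lt.ne hx
  have hC : centralizer (P : Set G) = (P : Subgroup G) := by
    symm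
    apply Subgroup.eq_of_le_of_card_ge (le_centralizer hP)
    have h3 : Nat.card (centralizer (P : Set G)) = c.r * c.k := hCP
    have h4 : Nat.card (P : Subgroup G) = c.r := hP
    rw [h3, hk, mul_one, h4]
  exact ⟨P, hP, hxP, hx1, hp2, ht, he, hC⟩

/-- all elements of order `p` are self-centralizing -/
theorem cent_of_order {p : ℕ} [hp : Fact p.Prime] {P : Sylow p G} (hP : Nat.card P = p)
    (hC : centralizer (P : Set G) = (P : Subgroup G)) {z : G} (hz : orderOf z = p) :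
    Nat.card (centralizer ({z} : Set G)) = p := by
  have hpg : IsPGroup p (zpowers z) := IsPGroup.of_card (n := 1) (by rw [Nat.card_zpowers, hz, pow_one])
  obtain ⟨Q, hQ⟩ := hpg.exists_le_sylow
  obtain ⟨c, hc⟩ := MulAction.exists_smul_eq G Q P
  have h1 : c * z * c⁻¹ ∈ P := by
    rw [← hc]
    have h2 : z ∈ (Q : Subgroup G) := hQ (mem_zpowers z)
    exact Subgroup.smul_mem_pointwise_smul z (MulAut.conj c) (Q : Subgroup G) h2
  have hz1 : z ≠ 1 := by rintro rfl; rw [orderOf_one] at hz; exact hp.out.one_lt.ne hz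
  have h3 : Nat.card (centralizer ({c * z * c⁻¹} : Set G)) = p :=
    cent_of_mem hP hC h1 fun h => hz1 (by simpa using h)
  rw [← h3]
  exact (Blocks.SylowIn.card_centralizer_of_isConj (isConj_iff.2 ⟨c, rfl⟩)).symm

omit [Finite G] in
theorem cent_pow_le (g : G) (k : ℕ) :
    centralizer ({g} : Set G) ≤ centralizer ({g ^ k} : Set G) := by
  intro z hz
  rw [mem_centralizer_singleton_iff] at hz ⊢
  exact (show Commute z g from hz).pow_right k

/-- an element of order divisible by `p` has a centralizer of order at most `p` -/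
theorem cent_of_dvd {p : ℕ} [hp : Fact p.Prime] {P : Sylow p G} (hP : Nat.card P = p)
    (hC : centralizer (P : Set G) = (P : Subgroup G)) {g : G} (h : p ∣ orderOf g) :
    Nat.card (centralizer ({g} : Set G)) ≤ p := by
  have hz : orderOf (g ^ (orderOf g / p)) = p := orderOf_pow_orderOf_div (orderOf_pos g).ne' h
  rw [← cent_of_order hP hC hz]
  exact Subgroup.card_le_of_le (cent_pow_le g _)

/-- the sieve -/
def tst2 (l : List (ℕ × List ℕ)) (cd : List CD) (d : ℕ) : Bool :=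
  Nat.ble d 1 || (l.any fun pl => !(pl.2.any fun r => Nat.beq (d % pl.1) r)) ||
    (cd.any fun c => !(c.wl.any fun rw => Nat.beq (d % c.r) rw.1))

theorem deg_of_check [IsSimpleGroup G] (hG : ¬ IsMulCommutative G) (N : ℕ) (hN : Nat.card G = N)
    (L : List (ℕ × ℕ)) (hL : (L.all fun pa => Nat.Prime pa.1) = true) (hLN : facProd L = N) (cd : List CD)
    (hcd : (cd.all (CD.ok N)) = true) (hx : ∀ d ∈ cd, d.Has G) {D : ℕ} (l : List (ℕ × List ℕ))
    (h : allDiv (D * D) (tst2 l cd) L 1 = true) {χ : IrrCharacter G} (hχ : (χ : G → ℂ) ≠ 1)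
    (hr : ∀ pl ∈ l, charDegree (χ : G → ℂ) % pl.1 ∈ pl.2) : D ≤ charDegree (χ : G → ℂ) := by
  by_contra hlt
  push Not at hlt
  set d := charDegree (χ : G → ℂ) with hd
  have h1 : d ∣ facProd L := by rw [hLN, ← hN]; exact charDegree_dvd χ
  have hL' : ∀ pa ∈ L, pa.1.Prime := fun pa hpa => of_decide_eq_true (List.all_eq_true.1 hL pa hpa)
  have h2 := allDiv_spec hL' h d h1 (by rw [one_mul]; exact Nat.mul_lt_mul'' hlt hlt)
  rw [one_mul] at h2
  have h3 : 2 ≤ d := two_le_charDegree hG χ hχ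
  have h4 : Nat.ble d 1 = false := by
    rw [Bool.eq_false_iff]; intro h; have := Nat.le_of_ble_eq_true h; omega
  have h6 : (l.any fun pl => !(pl.2.any fun r => Nat.beq (d % pl.1) r)) = false := by
    rw [Bool.eq_false_iff]
    intro h
    obtain ⟨pl, hpl, h8⟩ := List.any_eq_true.1 h
    have h9 : (pl.2.any fun r => Nat.beq (d % pl.1) r) = true :=
      List.any_eq_true.2 ⟨_, hr pl hpl, by rw [hd]; exact Nat.beq_refl _⟩
    rw [h9] at h8
    exact absurd h8 (by decide)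
  have h7 : (cd.any fun c => !(c.wl.any fun rw => Nat.beq (d % c.r) rw.1)) = false := by
    rw [Bool.eq_false_iff]
    intro h
    obtain ⟨c, hc, h8⟩ := List.any_eq_true.1 h
    have h9 := res_of_has hG hN (hx c hc) (List.all_eq_true.1 hcd c hc) χ
    rw [← hd] at h9
    rw [h9] at h8
    exact absurd h8 (by decide)
  rw [tst2, h4, h6, h7] at h2
  exact absurd h2 (by decide)

/-- **The row theorem of the pair lemma.** -/
theorem prd_row [IsSimpleGroup G] (hG : ¬ IsMulCommutative G) (N : ℕ) (hN : Nat.card G = N)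
    (L : List (ℕ × ℕ)) (hL : (L.all fun pa => Nat.Prime pa.1) = true) (hLN : facProd L = N) (cd : List CD)
    (hcd : (cd.all (CD.ok N)) = true) (hh : ∀ d ∈ cd, d.Has G) {c c' : CD} (hc : c ∈ cd) (hc' : c' ∈ cd)
    (hk : c.k = 1) (hk' : c'.k = 1) (hne : c.r ≠ c'.r) {m D1 D2 D3 K : ℕ}
    (hm : (if c.t = 1 then c.e + 1 else c.e) ≤ m + 1 ∨ (if c'.t = 1 then c'.e + 1 else c'.e) ≤ m + 1) (hm0 : 0 < m)
    (h1 : allDiv (D1 * D1) (tst2 [(c.r, [1, c.r - 1]), (c'.r, [1, c'.r - 1])] cd) L 1 = true)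
    (h2 : allDiv (D2 * D2) (tst2 [(c.r, [c.e, c.r - c.e]), (c'.r, [1, c'.r - 1])] cd) L 1 = true)
    (h3 : allDiv (D3 * D3) (tst2 [(c.r, [1, c.r - 1]), (c'.r, [c'.e, c'.r - c'.e])] cd) L 1 = true)
    (h10 : 0 < D1) (h20 : 0 < D2) (h30 : 0 < D3)
    (hK : K * (m * c.t * c'.t * (D2 * D3) ^ 2 + c'.t * (D1 * D3) ^ 2 + c.t * (D1 * D2) ^ 2) <
      c.t * c'.t * (D1 * D2 * D3) ^ 2)
    {x y g : G} (hx : orderOf x = c.r) (hcx : Nat.card (centralizer ({x} : Set G)) = c.r) (hy : orderOf y = c'.r)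
    (hcy : Nat.card (centralizer ({y} : Set G)) = c'.r) (hg : Nat.card (centralizer ({g} : Set G)) ≤ K)
    (hgo : ¬ c.r ∣ orderOf g) (hgo' : ¬ c'.r ∣ orderOf g) :
    ∃ a b : G, a * x * a⁻¹ * (b * y * b⁻¹) = g := by
  have : Finite (IrrCharacter G) := finite_irr
  have := Fintype.ofFinite (IrrCharacter G)
  have hr := (hh c hc).1
  have hr' := (hh c' hc').1
  have : Fact c.r.Prime := ⟨hr⟩
  have : Fact c'.r.Prime := ⟨hr'⟩
  have ok := List.all_eq_true.1 hcd c hc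
  have ok' := List.all_eq_true.1 hcd c' hc'
  obtain ⟨P, hP, hxP, hx1, hp2, ht, he, hC⟩ := exists_syl hG hN hk ok hx hcx
  obtain ⟨Q, hQ, hyQ, hy1, hq2, ht', he', hC'⟩ := exists_syl hG hN hk' ok' hy hcy
  obtain ⟨A⟩ := exists_dec hp2 hP hC he ht
  obtain ⟨B⟩ := exists_dec hq2 hQ hC' he' ht'
  have hpos : ∀ {e t r : ℕ}, r.Prime → e * t = r - 1 → 0 < t := fun {e t r} hr h => by
    have := hr.two_le
    exact Nat.pos_of_ne_zero fun h0 => by rw [h0, mul_zero] at h; omega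
  have key : ∀ {D : ℕ} {a b a' b' : ℕ},
      allDiv (D * D) (tst2 [(c.r, [a, b]), (c'.r, [a', b'])] cd) L 1 = true → ∀ χ : IrrCharacter G, (χ : G → ℂ) ≠ 1 →
      (charDegree (χ : G → ℂ) % c.r = a ∨ charDegree (χ : G → ℂ) % c.r = b) →
      (charDegree (χ : G → ℂ) % c'.r = a' ∨ charDegree (χ : G → ℂ) % c'.r = b') → D ≤ charDegree (χ : G → ℂ) := by
    intro D a b a' b' h χ hχ h1 h2
    refine deg_of_check hG N hN L hL hLN cd hcd hh _ h hχ fun pl hpl => ?_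
    simp only [List.mem_cons, List.not_mem_nil, or_false] at hpl
    rcases hpl with rfl | rfl
    · simpa using h1
    · simpa using h2
  exact prd_of_dec hr hr' hne hP hQ A B (hpos hr ht) (hpos hr' ht') hxP hx1 hyQ hy1 hgo hgo' hm hm0
    (fun χ hχ ha hb => key h1 χ hχ ha hb) (fun χ hχ ha hb => key h2 χ hχ ha hb)
    (fun χ hχ ha hb => key h3 χ hχ ha hb) h10 h20 h30 (lt_of_le_of_lt (Nat.mul_le_mul_right _ hg) hK)

theorem Dec.res {q e t f : ℕ} {Q : Subgroup G} (B : Dec G q e t f Q) {χ : IrrCharacter G}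
    {y : G} (hy : y ∈ Q) (hy1 : y ≠ 1) (h0 : (χ : G → ℂ) y ≠ 0) :
    charDegree (χ : G → ℂ) % q ∈ [1, q - 1, e, q - e] := by
  by_cases h1 : χ ∈ B.F
  · rcases B.resF χ h1 with h | h <;> rw [h] <;> simp
  · by_cases h2 : χ ∈ B.E
    · rcases B.resE χ h2 with h | h <;> rw [h] <;> simp
    · exact absurd (B.van χ h1 h2 y hy hy1) h0

/-- **The row theorem, small centralizers** (singular elements, and the crude bound in general). -/
theorem prd_crude [IsSimpleGroup G] (hG : ¬ IsMulCommutative G) (N : ℕ) (hN : Nat.card G = N)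
    (L : List (ℕ × ℕ)) (hL : (L.all fun pa => Nat.Prime pa.1) = true) (hLN : facProd L = N) (cd : List CD)
    (hcd : (cd.all (CD.ok N)) = true) (hh : ∀ d ∈ cd, d.Has G) {c c' : CD} (hc : c ∈ cd) (hc' : c' ∈ cd)
    (hk : c.k = 1) (hk' : c'.k = 1) {D K : ℕ}
    (h : allDiv (D * D) (tst2 [(c.r, [1, c.r - 1, c.e, c.r - c.e]), (c'.r, [1, c'.r - 1, c'.e, c'.r - c'.e])] cd) L 1 =
      true) (h0 : 0 < D)
    (hK : K * (s4 c.r c.e c.t + s4 c'.r c'.e c'.t) < 16 * D ^ 2)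
    {x y g : G} (hx : orderOf x = c.r) (hcx : Nat.card (centralizer ({x} : Set G)) = c.r) (hy : orderOf y = c'.r)
    (hcy : Nat.card (centralizer ({y} : Set G)) = c'.r) (hg : Nat.card (centralizer ({g} : Set G)) ≤ K) :
    ∃ a b : G, a * x * a⁻¹ * (b * y * b⁻¹) = g := by
  have : Finite (IrrCharacter G) := finite_irr
  have := Fintype.ofFinite (IrrCharacter G)
  have hr := (hh c hc).1
  have hr' := (hh c' hc').1
  have : Fact c.r.Prime := ⟨hr⟩
  have : Fact c'.r.Prime := ⟨hr'⟩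
  have ok := List.all_eq_true.1 hcd c hc
  have ok' := List.all_eq_true.1 hcd c' hc'
  obtain ⟨P, hP, hxP, hx1, hp2, ht, he, hC⟩ := exists_syl hG hN hk ok hx hcx
  obtain ⟨Q, hQ, hyQ, hy1, hq2, ht', he', hC'⟩ := exists_syl hG hN hk' ok' hy hcy
  obtain ⟨A⟩ := exists_dec hp2 hP hC he ht
  obtain ⟨B⟩ := exists_dec hq2 hQ hC' he' ht'
  obtain ⟨hS, -⟩ := fourth_of_card hG hN hr hk ok hx hcx
  obtain ⟨hS', -⟩ := fourth_of_card hG hN hr' hk' ok' hy hcy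
  refine exists_conj_of_sum (x := x) (y := y) (d := D)
    (S := ((s4 c.r c.e c.t : ℝ) + s4 c'.r c'.e c'.t) / 16) ?_ (fun χ h1 h2 h3 => ?_) ?_ h0
  · have h1 : ∑ χ : IrrCharacter G, (‖(χ : G → ℂ) x‖ * ‖(χ : G → ℂ) y‖) ^ 2 ≤
        ∑ χ : IrrCharacter G, (‖(χ : G → ℂ) x‖ ^ 4 + ‖(χ : G → ℂ) y‖ ^ 4) / 2 := by
      refine Finset.sum_le_sum fun χ _ => ?_
      nlinarith [sq_nonneg (‖(χ : G → ℂ) x‖ ^ 2 - ‖(χ : G → ℂ) y‖ ^ 2)]
    refine h1.trans ?_
    rw [← Finset.sum_div, Finset.sum_add_distrib]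
    linarith
  · refine deg_of_check hG N hN L hL hLN cd hcd hh _ h h1 fun pl hpl => ?_
    simp only [List.mem_cons, List.not_mem_nil, or_false] at hpl
    rcases hpl with rfl | rfl
    · exact A.res hxP hx1 h2
    · exact B.res hyQ hy1 h3
  · have h1 : (Nat.card (centralizer ({g} : Set G)) : ℝ) ≤ K := by exact_mod_cast hg
    have h2 : ((K * (s4 c.r c.e c.t + s4 c'.r c'.e c'.t) : ℕ) : ℝ) < ((16 * D ^ 2 : ℕ) : ℝ) := by exact_mod_cast hK
    push_cast at h2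
    have h3 : (Nat.card (centralizer ({g} : Set G)) : ℝ) * ((s4 c.r c.e c.t : ℝ) + s4 c'.r c'.e c'.t) ≤
        K * ((s4 c.r c.e c.t : ℝ) + s4 c'.r c'.e c'.t) := mul_le_mul_of_nonneg_right h1 (by positivity)
    linarith

/-- an element of order divisible by the prime of a self-centralizing element -/
theorem cent_le_of_dvd [IsSimpleGroup G] (hG : ¬ IsMulCommutative G) {N : ℕ} (hN : Nat.card G = N) {c : CD}
    (hh : c.Has G) (hk : c.k = 1) (hok : c.ok N = true) {g : G} (h : c.r ∣ orderOf g) :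
    Nat.card (centralizer ({g} : Set G)) ≤ c.r := by
  obtain ⟨hr, x, hx, hcx⟩ := hh
  have : Fact c.r.Prime := ⟨hr⟩
  obtain ⟨P, hP, -, -, -, -, -, hC⟩ := exists_syl hG hN hk hok hx (by rw [hcx, hk, mul_one])
  exact cent_of_dvd hP hC h

/-- an element of order prime to the prime of a self-centralizing element has a centralizer of order prime to it -/
theorem not_dvd_cent [IsSimpleGroup G] (hG : ¬ IsMulCommutative G) {N : ℕ} (hN : Nat.card G = N) {c : CD}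
    (hh : c.Has G) (hk : c.k = 1) (hok : c.ok N = true) {g : G} (hg : g ≠ 1) (h : ¬ c.r ∣ orderOf g) :
    ¬ c.r ∣ Nat.card (centralizer ({g} : Set G)) := by
  obtain ⟨hr, x, hx, hcx⟩ := hh
  have : Fact c.r.Prime := ⟨hr⟩
  obtain ⟨P, hP, -, -, -, -, -, hC⟩ := exists_syl hG hN hk hok hx (by rw [hcx, hk, mul_one])
  intro hd
  obtain ⟨z, hz⟩ := exists_prime_orderOf_dvd_card' c.r hd
  have hzo : orderOf (z : G) = c.r := by rw [Subgroup.orderOf_coe, hz]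
  have h1 := cent_of_order hP hC hzo
  have h2 : g ∈ centralizer ({(z : G)} : Set G) :=
    mem_centralizer_singleton_iff.2 (mem_centralizer_singleton_iff.1 z.2).symm
  have h3 : orderOf g ∣ c.r := by
    rw [← h1]
    exact Subgroup.orderOf_dvd_natCard _ h2
  rcases (Nat.dvd_prime hr).1 h3 with h4 | h4
  · exact hg (orderOf_eq_one_iff.1 h4)
  · exact h (by rw [h4])

end Cfsg.Agent.H210.TC.Pair
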